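import Cfsg.Agent.OddPre.PPrimeNilpotent.Frame
import Cfsg.Agent.FusionAlperin.Pullback.Local
import Mathlib.GroupTheory.PGroup

/-!
# A two-point group containing a Sylow `p`-subgroup of `H` is impossible
-/

set_option autoImplicit false
set_option linter.style.haveILetI false

namespace Cfsg.Agent.OddPre.PPrimeNilpotent

open Subgroup Cfsg.Agent.Fusion
open scoped commutatorElement

variable {G : Type*} [Group G] [Finite G] {p : ℕ} {H : Subgroup G}

/-- Disjoint conjugate subgroups inside a subgroup. -/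
theorem card_mul_le_of_disjoint {A B P : Subgroup G} (hA : A ≤ P) (hB : B ≤ P)
    (hd : ∀ x ∈ A, x ∈ B → x = 1) : Nat.card A * Nat.card B ≤ Nat.card P := by
  rw [← Nat.card_prod]
  refine Nat.card_le_card_of_injective
    (fun ab : A × B => (⟨(ab.1 : G) * ab.2, mul_mem (hA ab.1.2) (hB ab.2.2)⟩ : P)) fun x y hxy => ?_
  have h : (x.1 : G) * x.2 = (y.1 : G) * y.2 := congrArg Subtype.val hxy
  have h2 : (y.1 : G)⁻¹ * x.1 = (y.2 : G) * (x.2 : G)⁻¹ := by
    rw [eq_mul_inv_iff_mul_eq, mul_assoc, h, inv_mul_cancel_left]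
  have h3 : (y.1 : G)⁻¹ * x.1 = 1 :=
    hd _ (mul_mem (inv_mem y.1.2) x.1.2) (h2 ▸ mul_mem y.2.2 (inv_mem x.2.2))
  refine Prod.ext (Subtype.ext (inv_mul_eq_one.1 h3).symm) (Subtype.ext ?_)
  rw [h3] at h2
  exact (mul_inv_eq_one.1 h2.symm).symm

/-- The hypotheses of case I, with the notation `P = H ∩ vHv`. -/
structure CaseI (p : ℕ) (H : Subgroup G) (v : G) : Prop where
  ctx : Ctx p G
  se : Cfsg.IsStronglyEmbedded H
  ord : orderOf v = 2
  nmem : v ∉ H
  sylow : ¬ p ∣ (H ⊓ cj v H).relIndex H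

variable {v : G}

theorem CaseI.hP (c : CaseI p H v) : IsPGroup p ↥(H ⊓ cj v H) := c.ctx.inter_pGroup c.se c.nmem

theorem CaseI.conj_mem (c : CaseI p H v) {a : G} (ha : a ∈ H ⊓ cj v H) :
    v * a * v⁻¹ ∈ H ⊓ cj v H := by
  have hv := TwoFusion.involution_inv c.ord
  obtain ⟨h1, h2⟩ := Subgroup.mem_inf.1 ha
  rw [mem_cj, hv] at h2
  refine ⟨by rwa [hv], mem_cj.2 ?_⟩
  have e : v⁻¹ * (v * a * v⁻¹) * v = a := by group
  rwa [e]

theorem CaseI.v_mem (c : CaseI p H v) : v ∈ normalizer ((H ⊓ cj v H : Subgroup G) : Set G) := by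
  intro a
  refine ⟨c.conj_mem, fun ha => ?_⟩
  have := c.conj_mem ha
  have e : v * (v * a * v⁻¹) * v⁻¹ = (v * v) * a * (v * v)⁻¹ := by group
  rwa [e, TwoFusion.involution_mul_self c.ord, one_mul, inv_one, mul_one] at this

theorem CaseI.ne_bot (c : CaseI p H v) : H ⊓ cj v H ≠ ⊥ := fun e => by
  have := c.ctx.dvd_card_inter c.se c.ord c.nmem
  rw [e, card_bot] at this
  exact c.ctx.crit.prime.not_dvd_one this

theorem CaseI.normalizer_ne_top (c : CaseI p H v) :
    normalizer ((H ⊓ cj v H : Subgroup G) : Set G) ≠ ⊤ := by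
  haveI := Fact.mk c.ctx.crit.prime
  exact c.ctx.crit.normalizer_ne_top c.ne_bot (c.ctx.crit.ne_top_of_pGroup c.hP)

/-- No involution of `N(P)` lies in a conjugate of `H` containing `P`. -/
theorem CaseI.not_mem_point (c : CaseI p H v) {w : G} (hw : orderOf w = 2)
    (hwn : w ∈ normalizer ((H ⊓ cj v H : Subgroup G) : Set G)) {g : G}
    (hPg : H ⊓ cj v H ≤ cj g H) : w ∉ cj g H := by
  haveI := Fact.mk c.ctx.crit.prime
  intro hwg
  obtain ⟨z, hz, hzH⟩ := TwoFusion.se_exists_involution c.se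
  by_cases hg : g ∈ H
  · rw [cj_eq_self_of_mem hg] at hwg
    exact c.ctx.no_inverter c.se hw hwg c.hP hwn fun s t hs hsH ht htH =>
      exists_conj_inter c.se c.ord c.nmem hs hsH ht htH
  obtain ⟨u, hu, huH, hgu, -⟩ := exists_swapper c.se hz hzH hg
  have hcj : cj u H = cj g H := by
    rw [show u = g * (g⁻¹ * u) by group, ← cj_cj, cj_eq_self_of_mem hgu]
  have hu' : u ∉ cj g H := by
    rw [← hcj, mem_cj]
    simpa [mul_assoc] using huH
  have hback : cj u (cj g H) = H := by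
    rw [← hcj, cj_cj, TwoFusion.involution_mul_self hu, cj_one]
  have hD : cj g H ⊓ cj u (cj g H) = H ⊓ cj v H := by
    rw [hback, inf_comm]
    exact eq_of_sylow c.sylow (le_inf inf_le_left hPg) inf_le_left (c.ctx.inter_pGroup c.se hg)
  refine c.ctx.no_inverter (se_conj c.se g) hw hwg c.hP hwn fun s t hs hsH ht htH => ?_
  rw [← hD]
  exact exists_conj_inter (se_conj c.se g) hu hu' hs hsH ht htH

theorem CaseI.not_mem (c : CaseI p H v) {w : G} (hw : orderOf w = 2)
    (hwn : w ∈ normalizer ((H ⊓ cj v H : Subgroup G) : Set G)) : w ∉ H := by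
  have := c.not_mem_point hw hwn (g := 1) (by rw [cj_one]; exact inf_le_left)
  rwa [cj_one] at this

/-- `N_H(P) = P`. -/
theorem CaseI.normalizer_inf (c : CaseI p H v) :
    normalizer ((H ⊓ cj v H : Subgroup G) : Set G) ⊓ H = H ⊓ cj v H := by
  haveI := Fact.mk c.ctx.crit.prime
  refine eq_of_sylow c.sylow (le_inf le_normalizer inf_le_left) inf_le_right
    (isPGroup_of_forall fun x hx hxp => ?_)
  by_contra hx1
  obtain ⟨K, hKX, hxK, hKp, hKn, hKidx⟩ := c.ctx.crit.exists_hall c.normalizer_ne_top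
    (zpowers_le.2 hx.1) (by rwa [Nat.card_zpowers])
  have h2 : 2 ∣ Nat.card K := by
    have h1 : 2 ∣ Nat.card K *
        K.relIndex (normalizer ((H ⊓ cj v H : Subgroup G) : Set G)) := by
      rw [← Nat.card_congr (subgroupOfEquivOfLe hKX).toEquiv, relIndex, Subgroup.card_mul_index,
        ← c.ord]
      exact Subgroup.orderOf_dvd_natCard _ c.v_mem
    exact (Nat.prime_two.dvd_mul.1 h1).resolve_right
      (hKidx 2 Nat.prime_two fun e => c.ctx.crit.p_ne_two e.symm)
  obtain ⟨w, hwK, hwo, hwc⟩ := CN.exists_central hKn Nat.prime_two h2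
  exact c.not_mem hwo (hKX hwK) ((c.ctx.pPrime_facts c.se hx.2 hx1 hxp).1
    (mem_centralizer_singleton_iff.2 (mem_centralizer_singleton_iff.1
      (hwc (hxK (mem_zpowers x)))).symm))

/-- All involutions of `N(P)` are conjugate there. -/
theorem CaseI.conj_in (c : CaseI p H v) {w : G} (hw : orderOf w = 2)
    (hwn : w ∈ normalizer ((H ⊓ cj v H : Subgroup G) : Set G)) :
    ∃ x ∈ normalizer ((H ⊓ cj v H : Subgroup G) : Set G), x * v * x⁻¹ = w := by
  set X := normalizer ((H ⊓ cj v H : Subgroup G) : Set G) with hX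
  obtain ⟨g, hg⟩ := exists_cj_mem c.se c.ord
  have hHv := se_conj c.se g
  have step : ∀ a b : G, orderOf a = 2 → a ∈ X → a ∈ cj g H → orderOf b = 2 → b ∈ X →
      b ∉ cj g H → ∃ x ∈ X, x * a * x⁻¹ = b := by
    intro a b ha haX hag hb hbX hbg
    obtain ⟨x, -, hxe, hx⟩ := TwoFusion.exists_involution_conj_of_odd ha hb
      (TwoFusion.se_odd_product hHv ha hag hb hbg)
    refine ⟨x, (Subgroup.closure_le X).2 ?_ hx, hxe⟩
    rintro y (rfl | rfl) <;> assumption
  by_cases hwg : w ∈ cj g H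
  swap
  · exact step v w c.ord c.v_mem hg hw hwn hwg
  obtain ⟨y, hyX, hy⟩ : ∃ y ∈ X, y ∉ cj g H := by
    by_contra hcon
    push Not at hcon
    exact c.not_mem_point c.ord c.v_mem (le_normalizer.trans fun a ha => hcon a ha) hg
  have hbo : orderOf (y * v * y⁻¹) = 2 := (TwoFusion.orderOf_conj' y v).trans c.ord
  have hbX : y * v * y⁻¹ ∈ X := mul_mem (mul_mem hyX c.v_mem) (inv_mem hyX)
  have hbg : y * v * y⁻¹ ∉ cj g H := fun hh => hy
    (TwoFusion.se_mem_of_conj_mem hHv c.ord hg hh)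
  obtain ⟨x₁, hx₁, e₁⟩ := step v _ c.ord c.v_mem hg hbo hbX hbg
  obtain ⟨x₂, hx₂, e₂⟩ := step w _ hw hwn hwg hbo hbX hbg
  refine ⟨x₂⁻¹ * x₁, mul_mem (inv_mem hx₂) hx₁, ?_⟩
  calc x₂⁻¹ * x₁ * v * (x₂⁻¹ * x₁)⁻¹ = x₂⁻¹ * (x₁ * v * x₁⁻¹) * x₂ := by group
    _ = x₂⁻¹ * (x₂ * w * x₂⁻¹) * x₂ := by rw [e₁, e₂]
    _ = _ := by group

theorem CaseI.inv_bound (c : CaseI p H v) :
    Nat.card {w : G // orderOf w = 2 ∧ w ∈ normalizer ((H ⊓ cj v H : Subgroup G) : Set G)} *
      (2 * Nat.card ↥((H ⊓ cj v H) ⊓ centralizer ({v} : Set G))) ≤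
        Nat.card ↥(normalizer ((H ⊓ cj v H : Subgroup G) : Set G)) := by
  set X := normalizer ((H ⊓ cj v H : Subgroup G) : Set G) with hX
  set C := (centralizer ({v} : Set G)).subgroupOf X with hC
  have h1 : Nat.card {w : G // orderOf w = 2 ∧ w ∈ X} ≤ C.index := by
    refine Nat.card_le_card_of_surjective (Quotient.lift (fun a : X =>
      (⟨(a : G) * v * (a : G)⁻¹, (TwoFusion.orderOf_conj' _ _).trans c.ord,
        mul_mem (mul_mem a.2 c.v_mem) (inv_mem a.2)⟩ : {w : G // orderOf w = 2 ∧ w ∈ X}))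
      fun a b hab => ?_) fun w => ?_
    · have h := mem_centralizer_singleton_iff.1
        (mem_subgroupOf.1 (QuotientGroup.leftRel_apply.1 hab))
      push_cast at h
      refine Subtype.ext ?_
      show (a : G) * v * (a : G)⁻¹ = (b : G) * v * (b : G)⁻¹
      calc (a : G) * v * (a : G)⁻¹
          = (a : G) * (v * ((a : G)⁻¹ * (b : G))) * (b : G)⁻¹ := by group
        _ = (a : G) * (((a : G)⁻¹ * (b : G)) * v) * (b : G)⁻¹ := by rw [h]
        _ = _ := by group
    · obtain ⟨x, hx, e⟩ := c.conj_in w.2.1 w.2.2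
      exact ⟨QuotientGroup.mk ⟨x, hx⟩, Subtype.ext e⟩
  have h2 : 2 * Nat.card ↥((H ⊓ cj v H) ⊓ centralizer ({v} : Set G)) ∣ Nat.card C := by
    refine Nat.Coprime.mul_dvd_of_dvd_of_dvd ?_ ?_ ?_
    · haveI := Fact.mk c.ctx.crit.prime
      obtain ⟨k, hk⟩ := (c.hP.to_le (inf_le_left :
        (H ⊓ cj v H) ⊓ centralizer ({v} : Set G) ≤ H ⊓ cj v H)).exists_card_eq
      rw [hk]
      exact (Nat.coprime_primes Nat.prime_two c.ctx.crit.prime).2
        (Ne.symm c.ctx.crit.p_ne_two) |>.pow_right k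
    · rw [← c.ord]
      have hmem : (⟨v, c.v_mem⟩ : X) ∈ C := mem_subgroupOf.2 (mem_centralizer_singleton_iff.2 rfl)
      have := Subgroup.orderOf_dvd_natCard C hmem
      rwa [Subgroup.orderOf_mk] at this
    · rw [← Nat.card_congr (subgroupOfEquivOfLe (inf_le_left.trans le_normalizer :
        (H ⊓ cj v H) ⊓ centralizer ({v} : Set G) ≤ X)).toEquiv]
      exact card_dvd_of_le (comap_mono inf_le_right)
  rw [← C.card_mul_index, mul_comm]
  exact Nat.mul_le_mul (Nat.le_of_dvd Nat.card_pos h2) h1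

/-- Lower bound for the number of involutions of `N(P)`. -/
theorem CaseI.inv_lower (c : CaseI p H v) :
    ((H ⊓ cj v H).relIndex (normalizer ((H ⊓ cj v H : Subgroup G) : Set G)) - 1) *
      Nat.card (Inv H) ≤
      Nat.card {w : G // orderOf w = 2 ∧ w ∈ normalizer ((H ⊓ cj v H : Subgroup G) : Set G)} := by
  classical
  haveI := Fact.mk c.ctx.crit.prime
  set P := H ⊓ cj v H with hPdef
  set X := normalizer (P : Set G) with hX
  obtain ⟨z, hz, hzH⟩ := TwoFusion.se_exists_involution c.se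
  set one : X ⧸ P.subgroupOf X := ((1 : X) : X ⧸ P.subgroupOf X) with hone
  have hout : ∀ q : X ⧸ P.subgroupOf X, q ≠ one → ((q.out : X) : G) ∉ H := fun q hq hh => hq (by
    rw [← QuotientGroup.out_eq' q, hone]
    refine QuotientGroup.eq.2 ?_
    rw [mul_one, mem_subgroupOf]
    have : ((q.out : X) : G) ∈ P := c.normalizer_inf.le ⟨(q.out : X).2, hh⟩
    exact inv_mem this)
  have hex : ∀ (q : {q : X ⧸ P.subgroupOf X // q ≠ one}) (t : Inv H), ∃ w : G,
      orderOf w = 2 ∧ w ∈ X ∧ ((q.1.out : X) : G)⁻¹ * w ∈ H ∧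
      w * z * w⁻¹ = ((q.1.out : X) : G) * t * ((q.1.out : X) : G)⁻¹ := by
    intro q t
    set x := ((q.1.out : X) : G)
    have hxH : x ∉ H := hout q.1 q.2
    obtain ⟨w, hw, hwz, hwH⟩ := TwoFusion.se_exists_swap c.se hz hzH
      ((TwoFusion.orderOf_conj' x (t : G)).trans t.2.1)
      fun hh => hxH (TwoFusion.se_mem_of_conj_mem c.se t.2.1 t.2.2 hh)
    have hxw : x⁻¹ * w ∈ H := TwoFusion.se_mem_of_conj_mem c.se hz hzH (by
      rw [show x⁻¹ * w * z * (x⁻¹ * w)⁻¹ = x⁻¹ * (w * z * w⁻¹) * x by group, hwz,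
        show x⁻¹ * (x * (t : G) * x⁻¹) * x = t by group]
      exact t.2.2)
    refine ⟨w, hw, ?_, hxw, hwz⟩
    have hcj : cj w H = cj x H := by
      rw [show w = x * (x⁻¹ * w) by group, ← cj_cj, cj_eq_self_of_mem hxw]
    have hPw : H ⊓ cj w H = P := by
      refine eq_of_sylow c.sylow (le_inf inf_le_left ?_) inf_le_left (c.ctx.inter_pGroup c.se hwH)
      rw [hcj]
      have e : cj x P = P := cj_eq_of_mem (q.1.out : X).2
      exact e.ge.trans (cj_mono x inf_le_left)
    rw [hX, ← cj_eq_iff_mem_normalizer, ← hPw, cj_inf, cj_cj, TwoFusion.involution_mul_self hw,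
      cj_one, inf_comm]
  choose f hf using hex
  have hmk : ∀ q t, (⟨f q t, (hf q t).2.1⟩ : X) = (⟨f q t, (hf q t).2.1⟩ : X) := fun _ _ => rfl
  have hcard : Nat.card {q : X ⧸ P.subgroupOf X // q ≠ one} = P.relIndex X - 1 := by
    haveI := Fintype.ofFinite (X ⧸ P.subgroupOf X)
    rw [Nat.card_eq_fintype_card, Fintype.card_subtype_compl, Fintype.card_subtype_eq,
      ← Nat.card_eq_fintype_card]
    rfl
  rw [← hcard, ← Nat.card_prod]
  refine Nat.card_le_card_of_injective (fun qt => (⟨f qt.1 qt.2, (hf _ _).1, (hf _ _).2.1⟩ :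
    {w : G // orderOf w = 2 ∧ w ∈ X})) ?_
  rintro ⟨q, t⟩ ⟨q', t'⟩ he
  have he' : f q t = f q' t' := congrArg Subtype.val he
  have hcl : ∀ q t, ((⟨f q t, (hf q t).2.1⟩ : X) : X ⧸ P.subgroupOf X) = q.1 := fun q t => by
    refine Eq.trans ?_ (QuotientGroup.out_eq' q.1)
    refine (QuotientGroup.eq.2 ?_).symm
    rw [mem_subgroupOf]
    push_cast
    exact c.normalizer_inf.le (Subgroup.mem_inf.2
      ⟨mul_mem (inv_mem (q.1.out : X).2) (hf q t).2.1, (hf q t).2.2.1⟩)
  have hq : q = q' := by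
    refine Subtype.ext ?_
    rw [← hcl q t, ← hcl q' t']
    exact congrArg _ (Subtype.ext he')
  subst hq
  refine Prod.ext rfl (Subtype.ext ?_)
  have h1 := (hf q t).2.2.2
  rw [he', (hf q t').2.2.2] at h1
  exact (mul_left_cancel (mul_right_cancel h1)).symm

/-- `|P| ≤ m |C_P(v)|`. -/
theorem CaseI.card_le (c : CaseI p H v) :
    Nat.card ↥(H ⊓ cj v H) ≤
      Nat.card (Inv H) * Nat.card ↥((H ⊓ cj v H) ⊓ centralizer ({v} : Set G)) := by
  set P := H ⊓ cj v H with hPdef
  obtain ⟨z, hz, hzH⟩ := TwoFusion.se_exists_involution c.se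
  have hv := TwoFusion.involution_inv c.ord
  have hin : ∀ a ∈ P, v⁻¹ * (a * v * a⁻¹) ∈ H := fun a ha => by
    rw [show v⁻¹ * (a * v * a⁻¹) = (v⁻¹ * a * v) * a⁻¹ by group]
    exact mul_mem (mem_cj.1 (Subgroup.mem_inf.1 ha).2) (inv_mem (Subgroup.mem_inf.1 ha).1)
  let g : P → Inv H := fun a =>
    ⟨(v⁻¹ * ((a : G) * v * (a : G)⁻¹)) * z * (v⁻¹ * ((a : G) * v * (a : G)⁻¹))⁻¹,
      (TwoFusion.orderOf_conj' _ _).trans hz,
      mul_mem (mul_mem (hin a a.2) hzH) (inv_mem (hin a a.2))⟩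
  have hkey : ∀ a b : P, g a = g b → (b : G)⁻¹ * a ∈ centralizer ({v} : Set G) := by
    intro a b hab
    have h1 : (v⁻¹ * ((a : G) * v * (a : G)⁻¹)) * z * (v⁻¹ * ((a : G) * v * (a : G)⁻¹))⁻¹ =
        (v⁻¹ * ((b : G) * v * (b : G)⁻¹)) * z * (v⁻¹ * ((b : G) * v * (b : G)⁻¹))⁻¹ :=
      congrArg Subtype.val hab
    have hno : ∀ a : P, (a : G) * v * (a : G)⁻¹ ∉ H := fun a hh => c.nmem (by
      have := mul_mem (mul_mem (inv_mem (Subgroup.mem_inf.1 a.2).1) hh) (Subgroup.mem_inf.1 a.2).1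
      simpa [mul_assoc] using this)
    have h2 := TwoFusion.se_swap_unique c.se hz hzH
      ((TwoFusion.orderOf_conj' (a : G) v).trans c.ord) (hno a)
      ((TwoFusion.orderOf_conj' (b : G) v).trans c.ord) (hno b) (by
        have h3 := congrArg (fun y => v * y * v⁻¹) h1
        simp only [mul_inv_rev, inv_inv] at h3
        convert h3 using 1 <;> group)
    refine mem_centralizer_singleton_iff.2 ?_
    calc (b : G)⁻¹ * a * v = (b : G)⁻¹ * ((a : G) * v * (a : G)⁻¹) * a := by group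
      _ = (b : G)⁻¹ * ((b : G) * v * (b : G)⁻¹) * a := by rw [h2]
      _ = _ := by group
  haveI : Nonempty P := ⟨1⟩
  rw [← Nat.card_prod]
  refine Nat.card_le_card_of_injective (fun a : P =>
    (g a, (⟨((Function.invFun g (g a) : P) : G)⁻¹ * a, Subgroup.mem_inf.2
      ⟨mul_mem (inv_mem (Function.invFun g (g a)).2) a.2,
      hkey a _ (Function.invFun_eq ⟨a, rfl⟩).symm⟩⟩ : ↥(P ⊓ centralizer ({v} : Set G))))) ?_
  intro a b hab
  simp only [Prod.mk.injEq] at hab
  obtain ⟨h1, h2⟩ := hab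
  have h2' := congrArg (fun y : ↥(P ⊓ centralizer ({v} : Set G)) => (y : G)) h2
  simp only [h1] at h2'
  exact Subtype.ext (mul_left_cancel h2')

/-- `|N(P)| = 2 |P|`. -/
theorem CaseI.card_normalizer (c : CaseI p H v) :
    Nat.card ↥(normalizer ((H ⊓ cj v H : Subgroup G) : Set G)) =
      2 * Nat.card ↥(H ⊓ cj v H) := by
  set P := H ⊓ cj v H with hPdef
  set X := normalizer (P : Set G) with hX
  have hPX : P ≤ X := le_normalizer
  have hcard : Nat.card X = Nat.card P * P.relIndex X := by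
    rw [relIndex, ← Nat.card_congr (subgroupOfEquivOfLe hPX).toEquiv, Subgroup.card_mul_index]
  set f := P.relIndex X with hf
  have hf2 : 2 ≤ f := by
    have h0 : f ≠ 0 := (P.subgroupOf X).index_ne_zero_of_finite
    have h1 : f ≠ 1 := fun e => c.nmem ((relIndex_eq_one.1 e) c.v_mem).1
    omega
  have h1 := c.inv_bound
  have h2 := c.inv_lower
  have h3 := c.card_le
  rw [← hPdef, ← hX] at h1 h2
  rw [← hPdef] at h3
  rw [← hf] at h2
  rw [hcard] at h1
  set a := Nat.card ↥(P ⊓ centralizer ({v} : Set G))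
  set m := Nat.card (Inv H)
  have h4 : 2 * (f - 1) * Nat.card P ≤ Nat.card P * f := by
    calc 2 * (f - 1) * Nat.card P ≤ 2 * (f - 1) * (m * a) := Nat.mul_le_mul_left _ h3
      _ = (f - 1) * m * (2 * a) := by ring
      _ ≤ _ := Nat.mul_le_mul_right _ h2
      _ ≤ _ := h1
  have h5 : 2 * (f - 1) ≤ f :=
    Nat.le_of_mul_le_mul_right (h4.trans (mul_comm _ _).le) Nat.card_pos
  have : f = 2 := by omega
  rw [hcard, this, mul_comm]

/-- `P` is a Sylow subgroup of `G`. -/
theorem CaseI.exists_sylow (c : CaseI p H v) :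
    ∃ Q : Sylow p G, (Q : Subgroup G) = H ⊓ cj v H := by
  haveI := Fact.mk c.ctx.crit.prime
  set P := H ⊓ cj v H with hPdef
  obtain ⟨Q, hQ⟩ := c.hP.exists_le_sylow
  refine ⟨Q, le_antisymm ?_ hQ⟩
  by_contra hne
  have hlt : P < (Q : Subgroup G) := lt_of_le_of_ne hQ fun e => hne e.ge
  have h1 := lt_normalizer_inf Q.2 hlt
  obtain ⟨i, hi⟩ := c.hP.exists_card_eq
  obtain ⟨j, hj⟩ := (Q.2.to_le (inf_le_left :
    (Q : Subgroup G) ⊓ normalizer (P : Set G) ≤ Q)).exists_card_eq
  have h2 := card_dvd_of_le (inf_le_right : (Q : Subgroup G) ⊓ normalizer (P : Set G) ≤ _)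
  rw [c.card_normalizer, hj, ← hPdef, hi] at h2
  have h3 := card_lt_card h1
  rw [hj, hi] at h3
  have h4 : (p ^ j).Coprime 2 := Nat.Coprime.pow_left _
    ((Nat.coprime_primes c.ctx.crit.prime Nat.prime_two).2 c.ctx.crit.p_ne_two)
  have h5 := Nat.le_of_dvd (pow_pos c.ctx.crit.prime.pos i) (h4.dvd_of_dvd_mul_left h2)
  omega

/-- `N(P) = P ∪ vP`. -/
theorem CaseI.mem_or (c : CaseI p H v) {x : G}
    (hx : x ∈ normalizer ((H ⊓ cj v H : Subgroup G) : Set G)) :
    x ∈ H ⊓ cj v H ∨ v * x ∈ H ⊓ cj v H := by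
  set P := H ⊓ cj v H with hPdef
  set X := normalizer (P : Set G) with hX
  have hidx : (P.subgroupOf X).index = 2 := by
    have h := (P.subgroupOf X).card_mul_index
    rw [Nat.card_congr (subgroupOfEquivOfLe (le_normalizer : P ≤ X)).toEquiv, c.card_normalizer,
      ← hPdef, mul_comm 2] at h
    exact Nat.eq_of_mul_eq_mul_left Nat.card_pos h
  have h := Subgroup.mul_mem_iff_of_index_two hidx (a := (⟨v, c.v_mem⟩ : X)) (b := ⟨x, hx⟩)
  rw [mem_subgroupOf, mem_subgroupOf, mem_subgroupOf] at h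
  by_cases hxP : x ∈ P
  · exact Or.inl hxP
  · exact Or.inr (h.2 ⟨fun hh => absurd hh.1 c.nmem, fun hh => absurd hh hxP⟩)

theorem CaseI.frame (c : CaseI p H v) : Frame p H (H ⊓ cj v H) := by
  haveI := Fact.mk c.ctx.crit.prime
  obtain ⟨Q, hQ⟩ := c.exists_sylow
  refine c.ctx.frame c.se c.hP inf_le_left c.sylow fun x hxH hxn hxp => ?_
  by_contra hx1
  set P := H ⊓ cj v H with hPdef
  set X := normalizer (Cfsg.centerThompsonOf p P : Set G) with hX
  have hne : Cfsg.centerThompsonOf p P ≠ ⊥ := Modules.centerThompsonOf_ne_bot c.hP c.ne_bot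
  have hPX : normalizer (P : Set G) ≤ X := fun g hg => by
    rw [← cj_eq_iff_mem_normalizer] at hg
    rw [hX, ← cj_eq_iff_mem_normalizer]
    show (Cfsg.centerThompsonOf p P).map (MulAut.conj g).toMonoidHom = _
    rw [Modules.map_centerThompsonOf (MulAut.conj g).injective]
    exact congrArg _ hg
  have hX1 : X ≠ ⊤ := c.ctx.crit.normalizer_ne_top hne
    (c.ctx.crit.ne_top_of_pGroup (c.hP.to_le (Modules.centerThompsonOf_le p P)))
  have hle : X ≤ H := c.ctx.le_of_pPrime c.se hX1 (le_normalizer.trans hPX) inf_le_left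
    (fun hd => Q.not_dvd_index (by
      rw [hQ]
      exact hd.trans (relIndex_dvd_index_of_le (le_normalizer.trans hPX))))
    hxn hxH hx1 hxp
  exact c.nmem (hle (hPX c.v_mem))

/-- `C_P(z) ∩ v C_P(z) v = 1`. -/
theorem CaseI.disjoint (c : CaseI p H v) {z : G} (hz : orderOf z = 2) (hzH : z ∈ H) {y : G}
    (hy : y ∈ (H ⊓ cj v H) ⊓ centralizer ({z} : Set G))
    (hy' : v * y * v⁻¹ ∈ (H ⊓ cj v H) ⊓ centralizer ({z} : Set G)) : y = 1 := by
  by_contra hy1
  have h1 : centralizer ({v * y * v⁻¹} : Set G) ≤ H :=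
    c.frame.centralizer_le c.ctx c.se hz hzH hy'.1 (by simpa using hy1)
      (mem_centralizer_singleton_iff.1 hy'.2)
  refine c.nmem (TwoFusion.se_mem_of_conj_mem c.se hz hzH (h1 (mem_centralizer_singleton_iff.2 ?_)))
  have h2 := mem_centralizer_singleton_iff.1 hy.2
  calc v * z * v⁻¹ * (v * y * v⁻¹) = v * (z * y) * v⁻¹ := by group
    _ = v * (y * z) * v⁻¹ := by rw [h2]
    _ = _ := by group

/-- `|P| = p`. -/
theorem CaseI.card_eq (c : CaseI p H v) : Nat.card ↥(H ⊓ cj v H) = p := by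
  haveI := Fact.mk c.ctx.crit.prime
  set P := H ⊓ cj v H with hPdef
  obtain ⟨z, hz, hzH⟩ := TwoFusion.se_exists_involution c.se
  set C := P ⊓ centralizer ({z} : Set G) with hC
  have hcard := c.frame.card z hz hzH
  rw [← hC] at hcard
  have hCv : cj v C ≤ P := (cj_mono v inf_le_left).trans (cj_eq_of_mem c.v_mem).le
  have h1 := card_mul_le_of_disjoint (inf_le_left : C ≤ P) hCv fun y hy hy' => by
    have hv := TwoFusion.involution_inv c.ord
    rw [mem_cj, hv] at hy'
    refine c.disjoint hz hzH hy ?_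
    rw [hv]
    exact hy'
  rw [card_cj, hcard, mul_comm p] at h1
  have hCp : Nat.card C ≤ p := Nat.le_of_mul_le_mul_left h1 Nat.card_pos
  obtain ⟨k, hk⟩ := (c.hP.to_le (inf_le_left : C ≤ P)).exists_card_eq
  rcases Nat.lt_or_ge k 2 with hk2 | hk2
  swap
  · exfalso
    have h2 : p ^ 2 ≤ p ^ k := Nat.pow_le_pow_right c.ctx.crit.prime.pos hk2
    rw [← hk, pow_two] at h2
    nlinarith [c.ctx.crit.five, hCp]
  rcases (show k = 0 ∨ k = 1 by omega) with rfl | rfl
  · rw [hcard, hk, pow_zero, mul_one]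
  -- order `p²`: Burnside and the focal subgroup
  exfalso
  have hP2 : Nat.card P = p ^ 2 := by rw [hcard, hk, pow_one, pow_two]
  have hcomm : ∀ a ∈ P, ∀ b ∈ P, Commute a b := fun a ha b hb => by
    haveI := IsPGroup.isMulCommutative_of_card_eq_prime_sq hP2
    exact congrArg Subtype.val (mul_comm' (⟨a, ha⟩ : P) ⟨b, hb⟩)
  obtain ⟨Q, hQ⟩ : ∃ Q : Sylow p G, (Q : Subgroup G) = P := c.exists_sylow
  let A : Subgroup G :=
    { carrier := {a | a ∈ P ∧ v * a * v⁻¹ = a⁻¹}
      one_mem' := ⟨one_mem _, by group⟩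
      inv_mem' := fun {a} ha => ⟨inv_mem ha.1, by
        rw [← conj_inv, ha.2]⟩
      mul_mem' := fun {a b} ha hb => ⟨mul_mem ha.1 hb.1, by
        rw [← conj_mul, ha.2, hb.2, mul_inv_rev]
        exact (hcomm _ (inv_mem ha.1) _ (inv_mem hb.1)).eq⟩ }
  have hAP : A ≤ (Q : Subgroup G) := fun a ha => hQ ▸ ha.1
  have hfoc : Subgroup.focalSubgroup (Q : Subgroup G) ≤ A := by
    refine (closure_le A).2 ?_
    rintro g ⟨hgQ, x, hx, u, rfl⟩
    rw [hQ] at hgQ hx
    have hy : u * x⁻¹ * u⁻¹ ∈ P := by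
      have := mul_mem (inv_mem hx) hgQ
      rwa [show x⁻¹ * ⁅x, u⁆ = u * x⁻¹ * u⁻¹ by rw [commutatorElement_def]; group] at this
    set y := u * x⁻¹ * u⁻¹ with hydef
    have hQC : (Q : Subgroup G) ≤ centralizer ({y} : Set G) := fun a ha =>
      mem_centralizer_singleton_iff.2 (hcomm a (hQ ▸ ha) y hy).eq
    have hQC' : ((u • Q : Sylow p G) : Subgroup G) ≤ centralizer ({y} : Set G) := by
      rintro _ ⟨a, ha, rfl⟩
      refine mem_centralizer_singleton_iff.2 ?_
      show u * a * u⁻¹ * y = y * (u * a * u⁻¹)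
      have h2 := (hcomm a (hQ ▸ ha) x⁻¹ (inv_mem hx)).eq
      calc u * a * u⁻¹ * y = u * (a * x⁻¹) * u⁻¹ := by rw [hydef]; group
        _ = u * (x⁻¹ * a) * u⁻¹ := by rw [h2]
        _ = _ := by rw [hydef]; group
    obtain ⟨e, he⟩ := MulAction.exists_smul_eq (centralizer ({y} : Set G))
      ((u • Q : Sylow p G).subtype hQC') (Q.subtype hQC)
    have hn : (e : G) * u ∈ normalizer (P : Set G) := by
      have h1 : (e : G) * u ∈ normalizer ((Q : Subgroup G) : Set G) := by
        rw [← cj_eq_iff_mem_normalizer, ← cj_cj]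
        ext w
        rw [mem_cj]
        constructor
        · intro hw
          have hwC : w ∈ centralizer ({y} : Set G) := by
            have := mul_mem (mul_mem e.2 (hQC' hw)) (inv_mem e.2)
            simpa [mul_assoc] using this
          have : (⟨w, hwC⟩ : centralizer ({y} : Set G)) ∈
              ((Q.subtype hQC : Sylow p _) : Subgroup _) := by
            rw [← he]
            refine ⟨e⁻¹ * ⟨w, hwC⟩ * e, ?_, ?_⟩
            · show ((e : G)⁻¹ * w * (e : G)) ∈ ((u • Q : Sylow p G) : Subgroup G)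
              exact hw
            · show e * (e⁻¹ * ⟨w, hwC⟩ * e) * e⁻¹ = ⟨w, hwC⟩
              group
          exact this
        · intro hw
          have h3 : (⟨w, hQC hw⟩ : centralizer ({y} : Set G)) ∈
              ((e • (u • Q : Sylow p G).subtype hQC' : Sylow p _) : Subgroup _) := by
            rw [he]; exact hw
          obtain ⟨b, hb, hbw⟩ := h3
          have hbw' : (e : G) * (b : G) * (e : G)⁻¹ = w := congrArg Subtype.val hbw
          rw [← hbw', show (e : G)⁻¹ * ((e : G) * (b : G) * (e : G)⁻¹) * e = b by group]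
          exact hb
      rw [hQ] at h1
      exact h1
    have hey : (e : G) * y * (e : G)⁻¹ = y := by
      rw [mem_centralizer_singleton_iff.1 e.2]; group
    have hny : (e : G) * u * x⁻¹ * ((e : G) * u)⁻¹ = y := by
      calc (e : G) * u * x⁻¹ * ((e : G) * u)⁻¹ = (e : G) * (u * x⁻¹ * u⁻¹) * (e : G)⁻¹ := by group
        _ = y := hey
    rw [show ⁅x, u⁆ = x * y by rw [commutatorElement_def, hydef]; group]
    rcases c.mem_or hn with hm | hm
    · rw [← hny, (hcomm _ hm _ (inv_mem hx)).eq,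
        show x * (x⁻¹ * ((e : G) * u) * ((e : G) * u)⁻¹) = 1 by group]
      exact one_mem _
    · have hvy : y = v * x⁻¹ * v⁻¹ := by
        rw [← hny]
        have h2 := (hcomm _ hm _ (inv_mem hx)).eq
        have hvv := TwoFusion.involution_mul_self c.ord
        calc (e : G) * u * x⁻¹ * ((e : G) * u)⁻¹
            = v⁻¹ * ((v * ((e : G) * u)) * x⁻¹) * (v * ((e : G) * u))⁻¹ * v := by group
          _ = v⁻¹ * (x⁻¹ * (v * ((e : G) * u))) * (v * ((e : G) * u))⁻¹ * v := by rw [h2]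
          _ = v⁻¹ * x⁻¹ * v := by group
          _ = _ := by rw [TwoFusion.involution_inv c.ord]
      refine ⟨mul_mem hx hy, ?_⟩
      have hvx : v * x * v⁻¹ ∈ P := c.conj_mem hx
      have hvv : v * (v * x⁻¹ * v⁻¹) * v⁻¹ = x⁻¹ := by
        calc v * (v * x⁻¹ * v⁻¹) * v⁻¹ = (v * v) * x⁻¹ * (v * v)⁻¹ := by group
          _ = _ := by rw [TwoFusion.involution_mul_self c.ord, one_mul, inv_one, mul_one]
      rw [← conj_mul, hvy, hvv, mul_inv_rev, ← conj_inv, inv_inv]
  have htop : Subgroup.closure {x : G | Nat.Coprime (orderOf x) p} = ⊤ := by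
    have hv2 : v ∈ Subgroup.closure {x : G | Nat.Coprime (orderOf x) p} := subset_closure (by
      show Nat.Coprime (orderOf v) p
      rw [c.ord]
      exact (Nat.coprime_primes Nat.prime_two c.ctx.crit.prime).2 (Ne.symm c.ctx.crit.p_ne_two))
    refine (c.ctx.crit.eq_bot_or_top (N := Subgroup.closure _) ?_).resolve_left fun e => by
      rw [e, mem_bot] at hv2
      have := c.ord
      simp [hv2] at this
    refine Subgroup.Normal.mk fun a ha g => ?_
    have : Subgroup.closure {x : G | Nat.Coprime (orderOf x) p} ≤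
        (Subgroup.closure {x : G | Nat.Coprime (orderOf x) p}).comap
          (MulAut.conj g).toMonoidHom := by
      refine (closure_le _).2 fun b hb => subset_closure ?_
      show Nat.Coprime (orderOf (g * b * g⁻¹)) p
      rwa [TwoFusion.orderOf_conj']
    exact this ha
  have hinv : ∀ a ∈ P, v * a * v⁻¹ = a⁻¹ := fun a ha =>
    (FusionAlperin.mem_of_focal_le Q hAP hfoc (hQ ▸ ha)
      (by rw [htop, sup_top_eq]; exact mem_top a)).2
  have hCv1 : P ⊓ centralizer ({v} : Set G) = ⊥ := by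
    refine (eq_bot_iff_forall _).2 fun a ha => ?_
    have h2 := hinv a ha.1
    rw [← mem_centralizer_singleton_iff.1 ha.2, mul_inv_cancel_right] at h2
    have hd : orderOf a ∣ 2 := orderOf_dvd_of_pow_eq_one (by
      rw [pow_two]; nth_rewrite 1 [h2]; exact inv_mul_cancel a)
    obtain ⟨j, hj⟩ := IsPGroup.iff_orderOf.1 c.hP ⟨a, ha.1⟩
    rw [Subgroup.orderOf_mk] at hj
    rcases j with _ | j
    · exact orderOf_eq_one_iff.1 (by simpa using hj)
    · exact absurd ((Nat.prime_dvd_prime_iff_eq c.ctx.crit.prime Nat.prime_two).1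
        ((dvd_pow_self p j.succ_ne_zero).trans (hj ▸ hd))) c.ctx.crit.p_ne_two
  have h5 := c.card_le
  rw [← hPdef, hCv1, card_bot, mul_one, hP2] at h5
  have h6 : Nat.card (Inv H) = p := by
    obtain ⟨e, he, hm⟩ := c.ctx.inv_card c.se
    have := c.frame.cardC z hz hzH
    have h7 := card_eq_mul_inv (le_refl H) hz hzH fun t ht htH =>
      isConj_of_mem c.ctx.crit c.se hz hzH ht htH
    rw [inf_eq_right.2 (TwoFusion.se_centralizer_le c.se hz hzH), this] at h7
    exact (Nat.eq_of_mul_eq_mul_right Nat.card_pos h7).symm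
  rw [h6, pow_two] at h5
  nlinarith [c.ctx.crit.five]

theorem CaseI.inv_eq (c : CaseI p H v) : Nat.card (Inv H) = p := by
  haveI := Fact.mk c.ctx.crit.prime
  obtain ⟨z, hz, hzH⟩ := TwoFusion.se_exists_involution c.se
  have h7 := card_eq_mul_inv (le_refl H) hz hzH fun t ht htH =>
    isConj_of_mem c.ctx.crit c.se hz hzH ht htH
  rw [inf_eq_right.2 (TwoFusion.se_centralizer_le c.se hz hzH), c.frame.cardC z hz hzH] at h7
  exact (Nat.eq_of_mul_eq_mul_right Nat.card_pos h7).symm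

/-- `|H : P| |Inv H|` involutions outside `H` give elements of order `p` inverted by `z`. -/
theorem CaseI.count_low (c : CaseI p H v) {z : G} (hz : orderOf z = 2) (hzH : z ∈ H) :
    (H ⊓ cj v H).relIndex H * Nat.card (Inv H) ≤
      Nat.card {q : G ⧸ normalizer ((H ⊓ cj v H : Subgroup G) : Set G) //
        (q.out)⁻¹ * z * q.out ∈ normalizer ((H ⊓ cj v H : Subgroup G) : Set G)} *
      (p - 1) := by
  classical
  haveI := Fact.mk c.ctx.crit.prime
  set P := H ⊓ cj v H with hPdef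
  set X := normalizer (P : Set G) with hX
  obtain ⟨Q, hQ⟩ : ∃ Q : Sylow p G, (Q : Subgroup G) = P := c.exists_sylow
  have hPp : Nat.card P = p := c.card_eq
  have hz' := TwoFusion.involution_inv hz
  have hzz := TwoFusion.involution_mul_self hz
  -- swappers
  have hswap : ∀ (a : H ⧸ P.subgroupOf H) (t : Inv H), ∃ u : G, orderOf u = 2 ∧ u ∉ H ∧
      ((a.out : G) * v)⁻¹ * u ∈ H ∧
      u * z * u⁻¹ = ((a.out : G) * v) * t * ((a.out : G) * v)⁻¹ := by
    intro a t
    set g := (a.out : G) * v with hg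
    have hgH : g ∉ H := fun hh => c.nmem (by
      have := mul_mem (inv_mem a.out.2) hh
      rwa [hg, inv_mul_cancel_left] at this)
    obtain ⟨u, hu, hue, huH⟩ := TwoFusion.se_exists_swap c.se hz hzH
      ((TwoFusion.orderOf_conj' g (t : G)).trans t.2.1)
      fun hh => hgH (TwoFusion.se_mem_of_conj_mem c.se t.2.1 t.2.2 hh)
    refine ⟨u, hu, huH, TwoFusion.se_mem_of_conj_mem c.se hz hzH ?_, hue⟩
    rw [show g⁻¹ * u * z * (g⁻¹ * u)⁻¹ = g⁻¹ * (u * z * u⁻¹) * g by group, hue,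
      show g⁻¹ * (g * (t : G) * g⁻¹) * g = t by group]
    exact t.2.2
  choose f hf using hswap
  have hfinj : Function.Injective fun at' : (H ⧸ P.subgroupOf H) × Inv H => f at'.1 at'.2 := by
    rintro ⟨a, t⟩ ⟨b, s⟩ he
    simp only at he
    have ha := (hf a t).2.2.1
    rw [he] at ha
    have hb := (hf b s).2.2.1
    have h3 := mul_mem ha (inv_mem hb)
    rw [show ((a.out : G) * v)⁻¹ * f b s * (((b.out : G) * v)⁻¹ * f b s)⁻¹ =
      v⁻¹ * ((a.out : G)⁻¹ * (b.out : G)) * v by group] at h3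
    have hab : a = b := by
      rw [← QuotientGroup.out_eq' a, ← QuotientGroup.out_eq' b]
      refine QuotientGroup.eq.2 (mem_subgroupOf.2 ?_)
      push_cast
      exact Subgroup.mem_inf.2 ⟨mul_mem (inv_mem a.out.2) b.out.2, mem_cj.2 h3⟩
    subst hab
    have h4 := (hf a t).2.2.2
    rw [he, (hf a s).2.2.2] at h4
    exact Prod.ext rfl (Subtype.ext (mul_left_cancel (mul_right_cancel h4)).symm)
  -- the product with `z` has order `p`
  have hx : ∀ u : G, orderOf u = 2 → u ∉ H → ∃ q : {q : G ⧸ X // (q.out)⁻¹ * z * q.out ∈ X},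
      (q.1.out)⁻¹ * (z * u) * q.1.out ∈ P ∧ (q.1.out)⁻¹ * (z * u) * q.1.out ≠ 1 := by
    intro u hu huH
    set x := z * u with hxdef
    have hx1 : x ≠ 1 := fun e => huH (by
      rw [show u = z⁻¹ from eq_inv_of_mul_eq_one_right e]
      exact inv_mem hzH)
    have hinv : z * x * z⁻¹ = x⁻¹ := by
      rw [hxdef, mul_inv_rev, TwoFusion.involution_inv hu, ← mul_assoc, hzz, one_mul, hz']
    have hodd : Odd (orderOf x) := TwoFusion.se_odd_product c.se hz hzH hu huH
    have hpow : ∀ k : ℕ, z * x ^ k * z⁻¹ = (x ^ k)⁻¹ := fun k => by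
      rw [← conj_pow, hinv, inv_pow]
    have hpr : ∀ r : ℕ, r.Prime → r ∣ orderOf x → r = p := by
      intro r hr hd
      by_contra hrp
      obtain ⟨k, hk⟩ := exists_prime_pow_eq hd (orderOf_pos x)
      have hzn : z ∈ normalizer ((zpowers (x ^ k) : Subgroup G) : Set G) := by
        rw [← cj_eq_iff_mem_normalizer]
        show (zpowers (x ^ k)).map (MulAut.conj z).toMonoidHom = _
        rw [MonoidHom.map_zpowers]
        show zpowers (z * x ^ k * z⁻¹) = _
        rw [hpow, zpowers_inv]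
      have hcard : ¬ p ∣ Nat.card ↥(zpowers z ⊔ zpowers (x ^ k)) := fun hd' => by
        have := hd'.trans (OddLocal.card_sup_dvd_mul_of_normalizes (zpowers_le.2 hzn))
        rw [Nat.card_zpowers, Nat.card_zpowers, hz, hk] at this
        rcases c.ctx.crit.prime.dvd_mul.1 this with e | e
        · exact c.ctx.crit.p_ne_two ((Nat.prime_dvd_prime_iff_eq c.ctx.crit.prime Nat.prime_two).1 e)
        · exact hrp ((Nat.prime_dvd_prime_iff_eq c.ctx.crit.prime hr).1 e).symm
      have hr2 : r ≠ 2 := fun e => (Nat.not_even_iff_odd.2 hodd) (even_iff_two_dvd.2 (e ▸ hd))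
      have hcm := c.ctx.crit.commute_of_coprime hcard (mem_sup_left (mem_zpowers z))
        (mem_sup_right (mem_zpowers (x ^ k))) (by
          rw [hz, hk]; exact (Nat.coprime_primes Nat.prime_two hr).2 (Ne.symm hr2))
      have h2 := hpow k
      rw [hcm.eq, mul_inv_cancel_right] at h2
      have hd2 : r ∣ 2 := hk ▸ orderOf_dvd_of_pow_eq_one (by
        rw [pow_two]; nth_rewrite 1 [h2]; exact inv_mul_cancel _)
      exact hr2 ((Nat.prime_dvd_prime_iff_eq hr Nat.prime_two).1 hd2)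
    obtain ⟨S, hS⟩ := (IsPGroup.of_card (p := p) (n := (orderOf x).primeFactorsList.length)
      (G := zpowers x) (by
        rw [Nat.card_zpowers]
        exact Nat.eq_prime_pow_of_unique_prime_dvd (orderOf_pos x).ne' fun {r} hr hd =>
          hpr r hr hd)).exists_le_sylow
    obtain ⟨g, hg⟩ := MulAction.exists_smul_eq G Q S
    have hScard : Nat.card (S : Subgroup G) = p := by
      rw [S.card_eq_multiplicity, ← Q.card_eq_multiplicity, hQ, hPp]
    have hZ : zpowers x = (S : Subgroup G) := by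
      refine eq_of_le_of_card_ge hS ?_
      rw [hScard]
      refine Nat.le_of_dvd Nat.card_pos ?_
      have h5 := card_dvd_of_le hS
      rw [hScard] at h5
      rcases (Nat.dvd_prime c.ctx.crit.prime).1 h5 with e | e
      · exact absurd (by simpa using mem_bot.1 (eq_bot_of_card_eq _ e ▸ mem_zpowers x)) hx1
      · rw [e]
    have hSg : (S : Subgroup G) = cj g P := by
      rw [← hg, ← hQ]; rfl
    have hzS : z ∈ normalizer ((S : Subgroup G) : Set G) := by
      rw [← hZ, ← cj_eq_iff_mem_normalizer]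
      show (zpowers x).map (MulAut.conj z).toMonoidHom = _
      rw [MonoidHom.map_zpowers]
      show zpowers (z * x * z⁻¹) = _
      rw [hinv, zpowers_inv]
    set q : G ⧸ X := QuotientGroup.mk g with hq
    obtain ⟨n, hn⟩ := QuotientGroup.mk_out_eq_mul X g
    have hn' : cj (q.out) P = cj g P := by
      rw [hn, ← cj_cj, cj_eq_of_mem n.2]
    refine ⟨⟨q, ?_⟩, ?_, ?_⟩
    · rw [hSg, ← hn', ← cj_eq_iff_mem_normalizer, cj_cj] at hzS
      refine cj_eq_iff_mem_normalizer.1 ?_
      rw [mul_assoc, ← cj_cj, hzS, cj_inv_cj]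
    · have : x ∈ cj (q.out) P := by rw [hn', ← hSg]; exact hS (mem_zpowers x)
      exact mem_cj.1 this
    · intro e
      apply hx1
      calc x = q.out * ((q.out)⁻¹ * x * q.out) * (q.out)⁻¹ := by group
        _ = 1 := by rw [e]; group
  choose F hF using hx
  have h1 : Nat.card {y : P // y ≠ 1} = p - 1 := by
    haveI := Fintype.ofFinite P
    rw [Nat.card_eq_fintype_card, Fintype.card_subtype_compl, Fintype.card_subtype_eq,
      ← Nat.card_eq_fintype_card, hPp]
  rw [← h1, relIndex, ← Nat.card_prod, index, ← Nat.card_prod]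
  refine Nat.card_le_card_of_injective (fun at' =>
    (F _ (hf at'.1 at'.2).1 (hf at'.1 at'.2).2.1,
      ⟨⟨_, (hF _ (hf at'.1 at'.2).1 (hf at'.1 at'.2).2.1).1⟩,
        fun e => (hF _ (hf at'.1 at'.2).1 (hf at'.1 at'.2).2.1).2 (congrArg Subtype.val e)⟩)) ?_
  intro a b hab
  simp only [Prod.mk.injEq, Subtype.mk.injEq] at hab
  obtain ⟨e1, e2⟩ := hab
  rw [e1] at e2
  exact hfinj (mul_left_cancel (mul_left_cancel (mul_right_cancel e2)))

/-- Few conjugates of `N(P)` contain `z`. -/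
theorem CaseI.count_high (c : CaseI p H v) {z : G} (hz : orderOf z = 2) :
    Nat.card {q : G ⧸ normalizer ((H ⊓ cj v H : Subgroup G) : Set G) //
        (q.out)⁻¹ * z * q.out ∈ normalizer ((H ⊓ cj v H : Subgroup G) : Set G)} * (2 * p) ≤
      p * Nat.card ↥(centralizer ({z} : Set G)) := by
  classical
  set P := H ⊓ cj v H with hPdef
  set X := normalizer (P : Set G) with hX
  have hW : Nat.card {w : G // orderOf w = 2 ∧ w ∈ X} ≤ p := by
    have h1 := c.inv_bound
    rw [c.card_normalizer, c.card_eq, ← hPdef, ← hX] at h1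
    have h2 : 0 < Nat.card ↥(P ⊓ centralizer ({v} : Set G)) := Nat.card_pos
    nlinarith
  let T := {g : G // g⁻¹ * z * g ∈ X}
  have h3 : Nat.card {q : G ⧸ X // (q.out)⁻¹ * z * q.out ∈ X} * Nat.card X ≤ Nat.card T := by
    rw [← Nat.card_prod]
    refine Nat.card_le_card_of_injective (fun qa => (⟨qa.1.1.out * (qa.2 : G), ?_⟩ : T)) ?_
    · rw [show (qa.1.1.out * (qa.2 : G))⁻¹ * z * (qa.1.1.out * qa.2) =
        (qa.2 : G)⁻¹ * (qa.1.1.out⁻¹ * z * qa.1.1.out) * qa.2 by group]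
      exact mul_mem (mul_mem (inv_mem qa.2.2) qa.1.2) qa.2.2
    · rintro ⟨⟨q, hq⟩, a⟩ ⟨⟨q', hq'⟩, a'⟩ h
      have h' : q.out * (a : G) = q'.out * (a' : G) := congrArg Subtype.val h
      have e : q = q' := by
        rw [← QuotientGroup.out_eq' q, ← QuotientGroup.out_eq' q']
        refine QuotientGroup.eq.2 ?_
        rw [show q.out⁻¹ * q'.out = (a : G) * (a' : G)⁻¹ by
          rw [eq_mul_inv_iff_mul_eq, mul_assoc, ← h', inv_mul_cancel_left]]
        exact mul_mem a.2 (inv_mem a'.2)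
      subst e
      exact Prod.ext rfl (Subtype.ext (mul_left_cancel h'))
  have h4 : Nat.card T ≤
      Nat.card {w : G // orderOf w = 2 ∧ w ∈ X} * Nat.card ↥(centralizer ({z} : Set G)) := by
    let φ : T → {w : G // orderOf w = 2 ∧ w ∈ X} := fun g => ⟨(g : G)⁻¹ * z * g, by
      have := TwoFusion.orderOf_conj' (g : G)⁻¹ z
      rw [inv_inv] at this
      exact this.trans hz, g.2⟩
    rcases isEmpty_or_nonempty T with hT | hT
    · simp
    have hkey : ∀ g : T, (g : G) * ((Function.invFun φ (φ g) : T) : G)⁻¹ ∈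
        centralizer ({z} : Set G) := fun g => by
      have h : ((Function.invFun φ (φ g) : T) : G)⁻¹ * z * ((Function.invFun φ (φ g) : T) : G) =
          (g : G)⁻¹ * z * g := congrArg Subtype.val (Function.invFun_eq (f := φ) ⟨g, rfl⟩)
      refine mem_centralizer_singleton_iff.2 ?_
      set k := ((Function.invFun φ (φ g) : T) : G)
      calc (g : G) * k⁻¹ * z = (g : G) * (k⁻¹ * z * k) * k⁻¹ := by group
        _ = (g : G) * ((g : G)⁻¹ * z * g) * k⁻¹ := by rw [h]
        _ = _ := by group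
    rw [← Nat.card_prod]
    refine Nat.card_le_card_of_injective (fun g : T => (φ g,
      (⟨_, hkey g⟩ : ↥(centralizer ({z} : Set G))))) ?_
    intro a b hab
    simp only [Prod.mk.injEq, Subtype.mk.injEq] at hab
    obtain ⟨h1, h2⟩ := hab
    rw [h1] at h2
    exact Subtype.ext (mul_right_cancel h2)
  rw [c.card_normalizer, c.card_eq] at h3
  exact h3.trans (h4.trans (Nat.mul_le_mul_right _ hW))

/-- Case I is impossible. -/
theorem CaseI.false (c : CaseI p H v) : False := by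
  haveI := Fact.mk c.ctx.crit.prime
  obtain ⟨z, hz, hzH⟩ := TwoFusion.se_exists_involution c.se
  set P := H ⊓ cj v H with hPdef
  have hidx : P.relIndex H = Nat.card ↥(centralizer ({z} : Set G)) := by
    have h := (P.subgroupOf H).card_mul_index
    rw [Nat.card_congr (subgroupOfEquivOfLe (inf_le_left : P ≤ H)).toEquiv, c.card_eq,
      c.frame.cardC z hz hzH] at h
    exact Nat.eq_of_mul_eq_mul_left c.ctx.crit.prime.pos h
  have h1 := c.count_low hz hzH
  have h2 := c.count_high hz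
  rw [← hPdef, hidx, c.inv_eq] at h1
  rw [← hPdef] at h2
  have h5 := c.ctx.crit.five
  set n := Nat.card {q : G ⧸ normalizer (P : Set G) //
    (q.out)⁻¹ * z * q.out ∈ normalizer (P : Set G)}
  have h0 : 0 < Nat.card ↥(centralizer ({z} : Set G)) := Nat.card_pos
  have h6 : n * (p - 1) ≤ n * p := Nat.mul_le_mul_left _ (Nat.sub_le _ _)
  nlinarith

end Cfsg.Agent.OddPre.PPrimeNilpotent
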