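import Cfsg.Agent.OddPre.PPrimeNilpotent.CaseI
import Cfsg.Agent.PGroup.Basic
import Cfsg.Agent.PSolv.Cores

/-!
# No two-point group contains a Sylow `p`-subgroup of `H`: impossible as well

A largest `p`-subgroup `U ≤ H` normalizing a `p`-subgroup `T ≤ H` which is normalized by an
involution outside `H` is a Sylow subgroup of `H`; `p`-stability of `N(Z(J(U)))` then pushes `U`
into a conjugate of `H`.
-/

set_option autoImplicit false
set_option linter.style.haveILetI false

namespace Cfsg.Agent.OddPre.PPrimeNilpotent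

open Subgroup Cfsg.Agent.Fusion
open scoped commutatorElement

variable {G : Type*} [Group G] [Finite G] {p : ℕ} {H : Subgroup G}

/-- `U ≤ H` is a `p`-group normalizing the `p`-group `T ≤ H`, which an involution outside `H`
normalizes. -/
structure Pushed (p : ℕ) (H T U : Subgroup G) : Prop where
  pT : IsPGroup p T
  pU : IsPGroup p U
  ne : T ≠ ⊥
  TH : T ≤ H
  UH : U ≤ H
  UN : U ≤ normalizer (T : Set G)
  swap : ∃ u : G, orderOf u = 2 ∧ u ∉ H ∧ u ∈ normalizer (T : Set G)

omit [Finite G] in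
theorem swap_mem_normalizer {v : G} (hv : orderOf v = 2) :
    v ∈ normalizer ((H ⊓ cj v H : Subgroup G) : Set G) := by
  rw [← cj_eq_iff_mem_normalizer, cj_inf, cj_cj, TwoFusion.involution_mul_self hv, cj_one,
    inf_comm]

/-- A `p`-subgroup of `N` of index divisible by `p` grows inside `N`. -/
theorem exists_bigger [Fact p.Prime] {U N : Subgroup G} (hU : IsPGroup p U) (hUN : U ≤ N)
    (hd : p ∣ U.relIndex N) :
    ∃ V : Subgroup G, U < V ∧ V ≤ N ∧ V ≤ normalizer (U : Set G) ∧ IsPGroup p V := by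
  obtain ⟨S, hUS, hS⟩ := exists_sylow_inf_relIndex hU hUN
  have hlt : U < (S : Subgroup G) ⊓ N :=
    lt_of_le_of_ne (le_inf hUS hUN) fun e => hS (e ▸ hd)
  exact ⟨_, lt_normalizer_inf (S.2.to_le inf_le_left) hlt, inf_le_left.trans inf_le_right,
    inf_le_right, (S.2.to_le inf_le_left).to_le inf_le_left⟩

theorem normalizer_le_normalizer_ZJ (U : Subgroup G) :
    normalizer (U : Set G) ≤ normalizer (Cfsg.centerThompsonOf p U : Set G) := by
  intro g hg
  rw [← cj_eq_iff_mem_normalizer] at hg ⊢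
  show (Cfsg.centerThompsonOf p U).map (MulAut.conj g).toMonoidHom = _
  rw [Modules.map_centerThompsonOf (MulAut.conj g).injective]
  exact congrArg _ hg

/-- There is a largest pushed pair. -/
theorem Ctx.exists_max_pushed (h : Ctx p G) (hH : Cfsg.IsStronglyEmbedded H) :
    ∃ T U : Subgroup G, Pushed p H T U ∧
      ∀ T' U' : Subgroup G, Pushed p H T' U' → Nat.card U' ≤ Nat.card U := by
  obtain ⟨v, hv, hvH⟩ := exists_inv_not_mem h.crit hH
  have hne : H ⊓ cj v H ≠ ⊥ := fun e => by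
    have := h.dvd_card_inter hH hv hvH
    rw [e, card_bot] at this
    exact h.crit.prime.not_dvd_one this
  have h0 : Pushed p H (H ⊓ cj v H) (H ⊓ cj v H) :=
    ⟨h.inter_pGroup hH hvH, h.inter_pGroup hH hvH, hne, inf_le_left, inf_le_left, le_normalizer,
      v, hv, hvH, swap_mem_normalizer hv⟩
  obtain ⟨⟨T, U⟩, hTU, hmax⟩ := Set.exists_max_image {TU : Subgroup G × Subgroup G |
    Pushed p H TU.1 TU.2} (fun TU => Nat.card TU.2) (Set.toFinite _) ⟨(_, _), h0⟩
  exact ⟨T, U, hTU, fun T' U' h' => hmax (T', U') h'⟩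

/-- Case II is impossible. -/
theorem Ctx.caseII_false (h : Ctx p G) (hH : Cfsg.IsStronglyEmbedded H)
    (hno : ∀ v : G, orderOf v = 2 → v ∉ H → p ∣ (H ⊓ cj v H).relIndex H) : False := by
  haveI := Fact.mk h.crit.prime
  obtain ⟨z, hz, hzH⟩ := TwoFusion.se_exists_involution hH
  obtain ⟨T, U, hTU, hmax⟩ := h.exists_max_pushed hH
  -- `T ≤ U`
  have hTleU : T ≤ U := by
    have hsup : Pushed p H T (U ⊔ T) := ⟨hTU.pT, hTU.pU.to_sup_of_normal_right' hTU.pT hTU.UN,
      hTU.ne, hTU.TH, sup_le hTU.UH hTU.TH, sup_le hTU.UN le_normalizer, hTU.swap⟩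
    have := eq_of_le_of_card_ge le_sup_left (hmax _ _ hsup)
    exact le_sup_right.trans this.ge
  have hUne : U ≠ ⊥ := ne_bot_of_le_ne_bot hTU.ne hTleU
  -- (a)
  have hpoint : ∀ g : G, g ∉ H → ¬ U ≤ cj g H := by
    intro g hg hle
    obtain ⟨v, hv, hvH, hgv, -⟩ := exists_swapper hH hz hzH hg
    have hcj : cj v H = cj g H := by
      rw [show v = g * (g⁻¹ * v) by group, ← cj_cj, cj_eq_self_of_mem hgv]
    have hUD : U ≤ H ⊓ cj v H := le_inf hTU.UH (hcj ▸ hle)
    have hD := h.inter_pGroup hH hvH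
    obtain ⟨V, hlt, hVH, hVN, hVp⟩ := exists_bigger hD inf_le_left (hno v hv hvH)
    have h1 := hmax _ V ⟨hD, hVp, ne_bot_of_le_ne_bot hUne hUD, inf_le_left, hVH, hVN, v, hv,
      hvH, swap_mem_normalizer hv⟩
    have h2 := Subgroup.card_le_of_le hUD
    have h3 := card_lt_card hlt
    omega
  -- (b)
  have hNU : normalizer (U : Set G) ≤ H := fun g hg => by
    by_contra hgH
    exact hpoint g hgH ((cj_eq_of_mem hg).ge.trans (cj_mono g hTU.UH))
  have hnot : ∀ u : G, u ∉ H → ∀ X : Subgroup G, u ∈ X → U ≤ X → ∀ g : G, u ∈ cj g H →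
      ¬ X ≤ cj g H := fun u hu X _ hUX g hug hle => by
    by_cases hg : g ∈ H
    · exact hu (by rwa [cj_eq_self_of_mem hg] at hug)
    · exact hpoint g hg (hUX.trans hle)
  -- (c) for every pair with second member `U`
  have hsyl : ∀ T' : Subgroup G, Pushed p H T' U → ¬ p ∣ U.relIndex (normalizer (T' : Set G)) := by
    intro T' h' hd
    obtain ⟨V, hlt, hVX, hVN, hVp⟩ := exists_bigger h'.pU h'.UN hd
    have h1 := hmax T' V ⟨h'.pT, hVp, h'.ne, h'.TH, hVN.trans hNU, hVX, h'.swap⟩
    exact absurd (card_lt_card hlt) (not_lt.2 h1)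
  -- (e)
  obtain ⟨u, hu, huH, huN⟩ := hTU.swap
  have hXtop : normalizer (T : Set G) ≠ ⊤ :=
    h.crit.normalizer_ne_top hTU.ne (h.crit.ne_top_of_pGroup hTU.pT)
  have hcore : CharTwo.coreIn p (normalizer (T : Set G)) = ⊥ := by
    by_contra hne
    obtain ⟨g, hg⟩ := exists_cj_mem hH hu
    exact hnot u huH _ huN hTU.UN g hg (h.le_of_core (se_conj hH g) hXtop hu huN hg hne)
  have huZ : u ∈ normalizer (Cfsg.centerThompsonOf p U : Set G) := by
    obtain ⟨o, ho, n, hn, -, e⟩ :=
      h.crit.exists_ZJ_factor hXtop hTU.pU hTU.UN (hsyl T hTU) huN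
    rw [hcore, mem_bot] at ho
    rwa [e, ho, one_mul]
  set Z := Cfsg.centerThompsonOf p U with hZdef
  have hZne : Z ≠ ⊥ := Modules.centerThompsonOf_ne_bot hTU.pU hUne
  have hZU : Z ≤ U := Modules.centerThompsonOf_le p U
  have hUNZ : U ≤ normalizer (Z : Set G) := le_normalizer.trans (normalizer_le_normalizer_ZJ U)
  have hZ : Pushed p H Z U := ⟨hTU.pU.to_le hZU, hTU.pU, hZne, hZU.trans hTU.UH, hTU.UH, hUNZ,
    u, hu, huH, huZ⟩
  -- (f)
  have hUH : ¬ p ∣ U.relIndex H := fun hd => by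
    obtain ⟨V, hlt, hVH, hVN, hVp⟩ := exists_bigger hTU.pU hTU.UH hd
    have h1 := hmax Z V ⟨hZ.pT, hVp, hZne, hZ.TH, hVH,
      hVN.trans (normalizer_le_normalizer_ZJ U), hZ.swap⟩
    exact absurd (card_lt_card hlt) (not_lt.2 h1)
  set X := normalizer (Z : Set G) with hXdef
  have hX : X ≠ ⊤ := h.crit.normalizer_ne_top hZne (h.crit.ne_top_of_pGroup hZ.pT)
  have hF : Frame p H U := h.frame hH hTU.pU hTU.UH hUH fun x hxH hxX hxp => by
    by_contra hx1
    exact huH (h.le_of_pPrime hH hX hUNZ hTU.UH (hsyl Z hZ) hxX hxH hx1 hxp huZ)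
  set C := U ⊓ centralizer ({z} : Set G) with hCdef
  have hcard := hF.card z hz hzH
  rw [← hCdef] at hcard
  have hCne : C ≠ ⊥ := fun e => by
    rw [e, card_bot, mul_one] at hcard
    have hZU' : Z = U := by
      refine eq_of_le_of_card_ge hZU ?_
      rw [hcard]
      refine Nat.le_of_dvd Nat.card_pos ?_
      rcases (Nat.dvd_prime h.crit.prime).1 (hcard ▸ card_dvd_of_le hZU) with e1 | e1
      · exact absurd (eq_bot_of_card_eq _ e1) hZne
      · rw [e1]
    exact huH (hNU (hZU' ▸ huZ))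
  -- `C` is normal in `U`
  have hCn : ∀ a ∈ U, ∀ y ∈ C, a * y * a⁻¹ ∈ C := by
    intro a ha y hy
    obtain ⟨hyU, hyz⟩ := Subgroup.mem_inf.1 hy
    refine Subgroup.mem_inf.2 ⟨mul_mem (mul_mem ha hyU) (inv_mem ha),
      mem_centralizer_singleton_iff.2 ?_⟩
    have h1 : orderOf (a⁻¹ * z * a) = 2 := by
      have := TwoFusion.orderOf_conj' a⁻¹ z
      rw [inv_inv] at this
      exact this.trans hz
    have h2 := hF.fix z hz hzH y hyU (mem_centralizer_singleton_iff.1 hyz) _ h1
      (mul_mem (mul_mem (inv_mem (hTU.UH ha)) hzH) (hTU.UH ha))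
    calc a * y * a⁻¹ * z = a * (y * (a⁻¹ * z * a)) * a⁻¹ := by group
      _ = a * ((a⁻¹ * z * a) * y) * a⁻¹ := by rw [h2.eq]
      _ = _ := by group
  -- a central element of order `p`
  obtain ⟨y, hyo, hyC, hyc⟩ : ∃ y : G, orderOf y = p ∧ y ∈ C ∧ y ∈ centralizer (U : Set G) := by
    haveI : (C.subgroupOf U).Normal :=
      ⟨fun a ha g => mem_subgroupOf.2 (by simpa using hCn g g.2 a (mem_subgroupOf.1 ha))⟩
    have hne : C.subgroupOf U ⊓ center U ≠ ⊥ := PGroup.inf_center_ne_bot hTU.pU _ fun e => hCne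
      (by rwa [subgroupOf_eq_bot, disjoint_iff, inf_eq_left.2 (inf_le_left : C ≤ U)] at e)
    obtain ⟨k, hk⟩ := (hTU.pU.to_subgroup (C.subgroupOf U ⊓ center U)).exists_card_eq
    obtain ⟨w, hw⟩ := exists_prime_orderOf_dvd_card' (G := ↥(C.subgroupOf U ⊓ center U)) p (by
      rcases k with _ | k
      · exact absurd (eq_bot_of_card_eq _ (by simpa using hk)) hne
      · rw [hk]; exact dvd_pow_self p k.succ_ne_zero)
    refine ⟨((w : U) : G), by rw [Subgroup.orderOf_coe, Subgroup.orderOf_coe, hw],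
      mem_subgroupOf.1 w.2.1, mem_centralizer_iff.2 fun b hb => ?_⟩
    exact congrArg Subtype.val (Subgroup.mem_center_iff.1 w.2.2 ⟨b, hb⟩)
  have hy1 : y ≠ 1 := fun e => by
    rw [e, orderOf_one] at hyo
    exact h.crit.prime.ne_one hyo.symm
  obtain ⟨hyU, hyz⟩ := Subgroup.mem_inf.1 hyC
  have hyZ : y ∈ Z := by
    refine Modules.omegaOne_le p _ (Modules.omegaOne_center_le_centerThompson U ?_)
    exact Modules.mem_omegaOne_of_pow ⟨hyU, hyc⟩ (hyo ▸ pow_orderOf_eq_one y)
  -- `|Z| ≤ p²`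
  set A := Z ⊓ C with hAdef
  have hdisj : ∀ a ∈ A, a ∈ cj u A → a = 1 := by
    intro a ha hau
    by_contra ha1
    rw [mem_cj, TwoFusion.involution_inv hu] at hau
    obtain ⟨hbU, hbz⟩ := Subgroup.mem_inf.1 (Subgroup.mem_inf.1 hau).2
    obtain ⟨haU, haz⟩ := Subgroup.mem_inf.1 (Subgroup.mem_inf.1 ha).2
    have h1 : centralizer ({u * a * u} : Set G) ≤ H :=
      hF.centralizer_le h hH hz hzH hbU (fun e => ha1 (by
        calc a = (u * u) * a * (u * u) := by rw [TwoFusion.involution_mul_self hu]; group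
          _ = u * (u * a * u) * u := by group
          _ = 1 := by rw [e, mul_one, TwoFusion.involution_mul_self hu]))
        (mem_centralizer_singleton_iff.1 hbz)
    refine huH (TwoFusion.se_mem_of_conj_mem hH hz hzH (h1 (mem_centralizer_singleton_iff.2 ?_)))
    have h2 := mem_centralizer_singleton_iff.1 haz
    calc u * z * u⁻¹ * (u * a * u) = u * (z * a) * u := by group
      _ = u * (a * z) * u := by rw [h2]
      _ = u * a * (u * u) * z * u := by rw [TwoFusion.involution_mul_self hu]; group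
      _ = u * a * u * (u * z * u⁻¹) := by
        rw [TwoFusion.involution_inv hu]; simp only [mul_assoc]
  have hAA : Nat.card A * Nat.card A ≤ Nat.card Z := by
    have := card_mul_le_of_disjoint (A := A) (B := cj u A) (P := Z) inf_le_left
      ((cj_mono u inf_le_left).trans (cj_eq_of_mem huZ).le) hdisj
    rwa [card_cj] at this
  have hCidx : C.relIndex U = p := by
    have h1 := (C.subgroupOf U).card_mul_index
    rw [Nat.card_congr (subgroupOfEquivOfLe (inf_le_left : C ≤ U)).toEquiv, hcard, mul_comm p] at h1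
    exact Nat.eq_of_mul_eq_mul_left Nat.card_pos h1
  have hZA : Nat.card Z ≤ p * Nat.card A := by
    have h1 := (A.subgroupOf Z).card_mul_index
    rw [Nat.card_congr (subgroupOfEquivOfLe (inf_le_left : A ≤ Z)).toEquiv] at h1
    have h2 : (A.subgroupOf Z).index ≤ p := by
      rw [hAdef, inf_subgroupOf_left]
      exact hCidx ▸ relIndex_le_of_le_right hZU (C.subgroupOf U).index_ne_zero_of_finite
    rw [← h1, mul_comm p]
    exact Nat.mul_le_mul_left _ h2
  have hZp : Nat.card Z ≤ p * p := by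
    refine hZA.trans (Nat.mul_le_mul_left _ ?_)
    exact Nat.le_of_mul_le_mul_left ((hAA.trans hZA).trans (mul_comm _ _).le) Nat.card_pos
  -- `[Z, U] ≤ Z(U)`
  have hcentral : ∀ b ∈ Z, ∀ a ∈ U, ⁅b, a⁆ ∈ centralizer (U : Set G) := by
    set Y := Z.subgroupOf U ⊓ center U with hYdef
    haveI hZn : (Z.subgroupOf U).Normal := ⟨fun b hb g => mem_subgroupOf.2
      ((hUNZ g.2 b).1 (mem_subgroupOf.1 hb))⟩
    haveI : Y.Normal := ⟨fun n hn g => Subgroup.mem_inf.2
      ⟨hZn.conj_mem n (Subgroup.mem_inf.1 hn).1 g,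
        (inferInstance : (center ↥U).Normal).conj_mem n (Subgroup.mem_inf.1 hn).2 g⟩⟩
    intro b hb a ha
    set π := QuotientGroup.mk' Y with hπ
    have hM : (Z.subgroupOf U).map π ≤ center (↥U ⧸ Y) := by
      haveI := Normal.map hZn π (QuotientGroup.mk'_surjective Y)
      have hle : Nat.card ((Z.subgroupOf U).map π) ≤ p := by
        rw [hπ, PSolv.card_map_mk_eq_relIndex]
        have h1 := (Y.subgroupOf (Z.subgroupOf U)).card_mul_index
        rw [Nat.card_congr (subgroupOfEquivOfLe hZU).toEquiv] at h1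
        have h2 : p ≤ Nat.card (Y.subgroupOf (Z.subgroupOf U)) := by
          have hm : (⟨⟨y, hyU⟩, mem_subgroupOf.2 hyZ⟩ : Z.subgroupOf U) ∈
              Y.subgroupOf (Z.subgroupOf U) :=
            mem_subgroupOf.2 (Subgroup.mem_inf.2 ⟨mem_subgroupOf.2 hyZ,
              Subgroup.mem_center_iff.2 fun g => Subtype.ext (mem_centralizer_iff.1 hyc g g.2)⟩)
          have := Nat.le_of_dvd Nat.card_pos (Subgroup.orderOf_dvd_natCard _ hm)
          rwa [Subgroup.orderOf_mk, Subgroup.orderOf_mk, hyo] at this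
        rw [relIndex]
        have h5 := h.crit.five
        nlinarith
      obtain ⟨k, hk⟩ := ((hTU.pU.to_subgroup (Z.subgroupOf U)).map π).exists_card_eq
      rcases (show k = 0 ∨ k = 1 by
        rw [hk] at hle
        have := (Nat.pow_le_pow_iff_right h.crit.prime.one_lt).1 (hle.trans_eq (pow_one p).symm)
        omega) with rfl | rfl
      · rw [eq_bot_of_card_eq ((Z.subgroupOf U).map π) (by rw [hk, pow_zero])]; exact bot_le
      · exact PGroup.le_center_of_card_eq (hTU.pU.to_quotient Y) (by simpa using hk)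
    have hb' : π (⟨b, hZU hb⟩ : U) ∈ center (↥U ⧸ Y) :=
      hM ⟨_, mem_subgroupOf.2 hb, rfl⟩
    have hcm : ⁅(⟨b, hZU hb⟩ : U), (⟨a, ha⟩ : U)⁆ ∈ Y := by
      rw [← QuotientGroup.eq_one_iff]
      show π ⁅(⟨b, hZU hb⟩ : U), (⟨a, ha⟩ : U)⁆ = 1
      rw [map_commutatorElement, commutatorElement_eq_one_iff_mul_comm]
      exact (Subgroup.mem_center_iff.1 hb' _).symm
    exact mem_centralizer_iff.2 fun g hg =>
      congrArg Subtype.val (Subgroup.mem_center_iff.1 hcm.2 ⟨g, hg⟩)
  -- `p`-stability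
  have hUu : U ≤ cj u H := by
    intro a ha
    haveI hVn : (Z.subgroupOf X).Normal := normal_in_normalizer
    have hVp : IsPGroup p (Z.subgroupOf X) := hZ.pT.comap_subtype
    set V := Z.subgroupOf X with hVdef
    set ax : X := ⟨a, hUNZ ha⟩ with hax
    have hst := (h.crit.sl2Free hX).isPStableOn h.crit.p_ne_two hVp ax (by
      rw [commutator_eq_bot_iff_le_centralizer, commutator_le]
      intro β hβ w hw
      rw [mem_centralizer_iff]
      rintro _ ⟨i, rfl⟩
      obtain ⟨j, rfl⟩ := hw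
      refine Subtype.ext ?_
      have h1 : Commute ⁅(β : G), a ^ j⁆ a := (mem_centralizer_iff.1
        (hcentral β (mem_subgroupOf.1 hβ) _ (zpow_mem ha j)) a ha).symm
      have h2 := (h1.zpow_right i).eq.symm
      simpa [commutatorElement_def, hax] using h2)
    -- the image of `U` contains `O_p`
    set π := QuotientGroup.mk' (centralizer (V : Set X)) with hπ
    let S : Sylow p X := (hTU.pU.comap_subtype (K := X)).toSylow (hsyl Z hZ)
    haveI := PSolv.pCore_characteristic p (X ⧸ centralizer (V : Set X))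
    have hmem : π (⟨u, huZ⟩ * ax * (⟨u, huZ⟩)⁻¹) ∈
        Cfsg.pCore p (X ⧸ centralizer (V : Set X)) := by
      rw [map_mul, map_mul, map_inv]
      exact (inferInstance : (Cfsg.pCore p (X ⧸ centralizer (V : Set X))).Normal).conj_mem _ hst _
    obtain ⟨s, hs, hse⟩ := PSolv.pCore_le_sylow
      (S.mapSurjective (f := π) (QuotientGroup.mk'_surjective _)) hmem
    have hc := QuotientGroup.eq.1 hse
    have hyV : (⟨y, hUNZ hyU⟩ : X) ∈ V := mem_subgroupOf.2 hyZ
    have hc' := congrArg Subtype.val (mem_centralizer_iff.1 hc ⟨y, hUNZ hyU⟩ hyV)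
    push_cast at hc'
    have hsy : y * (s : G) = (s : G) * y :=
      (mem_centralizer_iff.1 hyc (s : G) (mem_subgroupOf.1 hs)).symm
    -- `u a u⁻¹` commutes with `y`
    have hk : Commute y (u * a * u⁻¹) := by
      have h3 : Commute y ((s : G)⁻¹ * (u * a * u⁻¹)) := hc'
      have h4 : Commute y (s : G) := hsy
      simpa [mul_assoc] using h4.mul_right h3
    refine mem_cj.2 (hF.centralizer_le h hH hz hzH hyU hy1
      (mem_centralizer_singleton_iff.1 hyz) (mem_centralizer_singleton_iff.2 ?_))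
    rw [TwoFusion.involution_inv hu] at hk ⊢
    exact hk.symm.eq
  exact hpoint u huH hUu

end Cfsg.Agent.OddPre.PPrimeNilpotent
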