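import Cfsg.Agent.OddPre.PPrimeNilpotent.Control
import Cfsg.Agent.Invol.RankOneQuot
import Cfsg.Agent.Invol.StronglyEmbedded
import Cfsg.Agent.Signalizer.ConstrainedCores
import Cfsg.Agent.SignalizerTwo.Prop
import Cfsg.Agent.S0205
import Cfsg.Agent.TwoFusion.SEBasic

/-!
# A strongly embedded subgroup in a minimal counterexample
-/

set_option autoImplicit false
set_option linter.style.haveILetI false

namespace Cfsg.Agent.OddPre.PPrimeNilpotent

open Subgroup Cfsg.Agent.Fusion
open Cfsg.Agent.LAE60.W (WS WS_le WS_ne_bot good_WS zpowers_le_WS normalizer_le_normalizer_WS)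

universe u

variable {G : Type u} [Group G] [Finite G] {p : ℕ}

/-- A `q'`-subgroup centralizing a `q`-group `A` and normalized by `C(A)` lies in the `q'`-core. -/
theorem le_pPrimeCore_of_centralizes_group {X : Type*} [Group X] [Finite X] {q : ℕ}
    [Fact q.Prime] (h : Cfsg.IsPConstrained q X) {A : Subgroup X} (hA : IsPGroup q A)
    {W : Subgroup X} (hW : (Nat.card W).Coprime q) (hWA : W ≤ centralizer (A : Set X))
    (hn : centralizer (A : Set X) ≤ normalizer (W : Set X)) :
    W ≤ Cfsg.pPrimeCore q X := by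
  let φ := QuotientGroup.mk' (Cfsg.pPrimeCore q X)
  have hcent : centralizer (A.map φ : Set _) ≤ (centralizer (A : Set X)).map φ := by
    intro c hc
    have hc' : c ∈ normalizer (A.map φ : Set _) :=
      CharTwo.normalizer_le_centralizer_of_coe _ hc
    rw [← CharTwo.map_normalizer_mk Cores.pPrimeCore_coprime hA] at hc'
    obtain ⟨n, hn', rfl⟩ := hc'
    refine ⟨n, fun a ha => ?_, rfl⟩
    have h1 : n * a * n⁻¹ * a⁻¹ ∈ A := mul_mem ((hn' a).1 ha) (inv_mem ha)
    have h2 : n * a * n⁻¹ * a⁻¹ ∈ Cfsg.pPrimeCore q X := by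
      rw [← QuotientGroup.eq_one_iff]
      show φ (n * a * n⁻¹ * a⁻¹) = 1
      rw [map_mul, map_mul, map_mul, map_inv, map_inv,
        ← hc (φ a) (mem_map_of_mem φ ha), mul_inv_cancel_right, mul_inv_cancel]
    have h3 := CharTwo.eq_one_of_coprime_of_mem hA h1
      (Cores.orderOf_coprime_of_mem_pPrimeCore h2)
    exact (mul_inv_eq_iff_eq_mul.1 (mul_inv_eq_one.1 h3)).symm
  have hφ : W.map φ = ⊥ := by
    refine (CharTwo.isPConstrained_iff.1 h).eq_bot_of_centralizes (hA.map φ)
      (hW.coprime_dvd_left (Subgroup.card_map_dvd _ _)) ?_ ?_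
    · rintro _ ⟨w, hw, rfl⟩ _ ⟨a, ha, rfl⟩
      rw [← map_mul, ← map_mul, hWA hw a ha]
    · exact inf_le_left.trans (hcent.trans
        ((Subgroup.map_mono hn).trans (Subgroup.le_normalizer_map _)))
  intro w hw
  have := hφ.le (Subgroup.mem_map_of_mem φ hw)
  exact (QuotientGroup.eq_one_iff w).1 (by simpa [φ] using this)

/-- Cores of 2-locals lie in the core of the centralizer of a central involution. -/
theorem Crit.core_normalizer_le_theta (hc : Crit p G) {D : Subgroup G} (hD : IsPGroup 2 D) {q : G}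
    (hqD : q ∈ D) (hq1 : q ≠ 1) (hqc : q ∈ centralizer (D : Set G)) :
    CharTwo.coreIn 2 (normalizer (D : Set G)) ≤ CharTwo.theta q := by
  haveI : Fact (Nat.Prime 2) := ⟨Nat.prime_two⟩
  set O := CharTwo.coreIn 2 (normalizer (D : Set G))
  set X := centralizer ({q} : Set G) with hX
  have hOD : O ≤ centralizer (D : Set G) := by
    intro w hw a ha
    have h1 : w * a * w⁻¹ * a⁻¹ ∈ D :=
      mul_mem ((CharTwo.coreIn_le _ hw a).1 ha) (inv_mem ha)
    have h2 : w * a * w⁻¹ * a⁻¹ ∈ O := by
      have : w * (a * w⁻¹ * a⁻¹) ∈ O :=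
        mul_mem hw ((CharTwo.le_normalizer_coreIn _ (le_normalizer ha) _).1 (inv_mem hw))
      simpa [mul_assoc] using this
    have h4 := CharTwo.eq_one_of_coprime_of_mem hD h1
      ((CharTwo.coreIn_coprime _).coprime_dvd_left (orderOf_dvd_natCard O h2))
    exact (mul_inv_eq_iff_eq_mul.1 (mul_inv_eq_one.1 h4)).symm
  have hOX : O ≤ X := hOD.trans (CharTwo.centralizer_le_centralizer_singleton hqD)
  have hDX : D ≤ X := fun d hd => mem_centralizer_singleton_iff.2 (hqc d hd)
  have h := le_pPrimeCore_of_centralizes_group (hc.pConstrained_centralizer 2 hq1)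
    (A := D.subgroupOf X) hD.comap_subtype (W := O.subgroupOf X)
    ((CharTwo.coreIn_coprime _).coprime_dvd_left
      (Subgroup.card_comap_dvd_of_injective _ X.subtype X.subtype_injective))
    (by rw [CharTwo.centralizer_subgroupOf_eq hDX]; exact fun w hw => hOD hw)
    (by
      rw [CharTwo.centralizer_subgroupOf_eq hDX]
      intro c hc' w
      exact CharTwo.le_normalizer_coreIn _
        (CharTwo.normalizer_le_centralizer_of_coe D hc') (w : G))
  exact fun w hw => ⟨⟨w, hOX hw⟩, h hw, rfl⟩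

/-- `W(S)` has order at least 8. -/
theorem Crit.eight_le_WS (hc : Crit p G) (S : Sylow 2 G) :
    8 ≤ Nat.card (WS (S : Subgroup G)) := by
  haveI : Fact (Nat.Prime 2) := ⟨Nat.prime_two⟩
  by_contra hlt
  set V := WS (S : Subgroup G) with hV
  have hSne : (S : Subgroup G) ≠ ⊥ := S.ne_bot_of_dvd_card hc.even
  obtain ⟨z, hzS, hzo, hzc⟩ := CharTwo.exists_central_orderOf S.2 hSne
  have hz1 : z ≠ 1 := fun h => by simp [h] at hzo
  have hz2 : z ^ 2 = 1 := hzo ▸ pow_orderOf_eq_one z
  have hzV : z ∈ V := zpowers_le_WS hzS hzc hz2 (mem_zpowers z)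
  have hV4 : Nat.card V ≤ 4 := by
    obtain ⟨k, hk⟩ := (S.2.to_le (WS_le _)).exists_card_eq
    rw [← hV] at hk
    rw [hk] at hlt ⊢
    rcases k with _ | _ | _ | k
    · norm_num
    · norm_num
    · norm_num
    · exact absurd (Nat.pow_le_pow_right two_pos (by omega : 3 ≤ k + 1 + 1 + 1)) (by simpa using hlt)
  set K := centralizer ({z} : Set G) with hK
  have hSK : (S : Subgroup G) ≤ K := fun s hs => mem_centralizer_singleton_iff.2 (hzc s hs)
  have hbase : normalizer (V : Set G) ≤ K := by
    set X := normalizer (V : Set G) with hX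
    have hXsolv : Group.IsSolvable X := hc.normalizer_solvable (S.2.to_le (WS_le _))
      (WS_ne_bot S.2 hSne)
    rw [← Subgroup.relIndex_eq_one]
    by_contra hne
    obtain ⟨r, hr, hrd⟩ := Nat.exists_prime_and_dvd hne
    haveI := Fact.mk hr
    have hSX : (S : Subgroup G) ≤ X :=
      le_normalizer.trans (normalizer_le_normalizer_WS _)
    by_cases hr2 : r = 2
    · subst hr2
      exact S.not_dvd_index (hrd.trans ((Subgroup.relIndex_dvd_of_le_left X hSK).trans
        (Subgroup.relIndex_dvd_index_of_le hSX)))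
    by_cases hrp : r = p
    · have hle : K.relIndex X ≤ Nat.card V := by
        refine Nat.card_le_card_of_injective (Quotient.lift
          (fun x : X => (⟨(x : G) * z * (x : G)⁻¹, (x.2 z).1 hzV⟩ : V)) ?_) ?_
        · intro a b hab
          have hab' := mem_subgroupOf.1 (QuotientGroup.leftRel_apply.1 hab)
          have h := mem_centralizer_singleton_iff.1 hab'
          push_cast at h
          refine Subtype.ext ?_
          show (a : G) * z * (a : G)⁻¹ = (b : G) * z * (b : G)⁻¹
          calc (a : G) * z * (a : G)⁻¹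
              = (a : G) * (z * ((a : G)⁻¹ * (b : G))) * (b : G)⁻¹ := by group
            _ = (a : G) * (((a : G)⁻¹ * (b : G)) * z) * (b : G)⁻¹ := by rw [h]
            _ = _ := by group
        · intro a b
          induction a using QuotientGroup.induction_on with
          | _ a =>
          induction b using QuotientGroup.induction_on with
          | _ b =>
          intro hab
          have hab' : (a : G) * z * (a : G)⁻¹ = (b : G) * z * (b : G)⁻¹ :=
            congrArg Subtype.val hab
          refine QuotientGroup.eq.2 (mem_subgroupOf.2 (mem_centralizer_singleton_iff.2 ?_))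
          push_cast
          calc (a : G)⁻¹ * (b : G) * z = (a : G)⁻¹ * ((b : G) * z * (b : G)⁻¹) * (b : G) := by group
            _ = (a : G)⁻¹ * ((a : G) * z * (a : G)⁻¹) * (b : G) := by rw [hab']
            _ = _ := by group
      have h5 := hc.five
      have hpos : 0 < K.relIndex X := Nat.pos_of_ne_zero (K.subgroupOf X).index_ne_zero_of_finite
      have := Nat.le_of_dvd hpos (hrp ▸ hrd)
      omega
    obtain ⟨R⟩ : Nonempty (Sylow r X) := inferInstance
    refine R.not_dvd_index (hrd.trans (Subgroup.index_dvd_of_le (H := (R : Subgroup X))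
      (K := K.subgroupOf X) fun x hx => ?_))
    obtain ⟨k, hk⟩ := IsPGroup.iff_orderOf.1 R.2 ⟨x, hx⟩
    rw [Subgroup.orderOf_mk] at hk
    have hxV := hc.centralizes hr (fun e => hc.p_ne_two e.symm) hrp (Ne.symm hr2)
      (S.2.to_le (WS_le _)) x.2 ⟨k, by rw [Subgroup.orderOf_coe]; exact hk⟩
    exact mem_subgroupOf.2 (mem_centralizer_singleton_iff.2 (hxV z hzV).symm)
  have hall := hc.normalizer_le_of_cores S K (fun D => z ∈ D)
    (fun D hD h => hz1 (mem_bot.1 (h ▸ hD)))
    (fun T hTS _ hT => zpowers_le_WS (hT ⟨hzc, hzS⟩) (fun t ht => hzc t (hTS ht)) hz2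
      (mem_zpowers z))
    (fun D U h hle => hle h)
    (fun D hD y hy => by
      rw [mem_cj]
      have : y⁻¹ * z * y = z := by
        rw [mul_assoc, ← mem_centralizer_singleton_iff.1 hy, inv_mul_cancel_left]
      rwa [this])
    hbase
    (fun D hDS hzD => fun o ho => mem_centralizer_singleton_iff.2 (by
      have h1 : o * z * o⁻¹ * z⁻¹ ∈ D :=
        mul_mem ((CharTwo.coreIn_le _ ho z).1 hzD) (inv_mem hzD)
      have h2 : o * z * o⁻¹ * z⁻¹ ∈ CharTwo.coreIn 2 (normalizer (D : Set G)) := by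
        have : o * (z * o⁻¹ * z⁻¹) ∈ CharTwo.coreIn 2 (normalizer (D : Set G)) :=
          mul_mem ho ((CharTwo.le_normalizer_coreIn _ (le_normalizer hzD) _).1 (inv_mem ho))
        simpa [mul_assoc] using this
      have h3 := CharTwo.eq_one_of_coprime_of_mem (S.2.to_le hDS) h1
        ((CharTwo.coreIn_coprime _).coprime_dvd_left (orderOf_dvd_natCard _ h2))
      exact mul_inv_eq_iff_eq_mul.1 (mul_inv_eq_one.1 h3)))
  have hiso : Invol.IsIsolatedInv z := by
    refine Invol.isIsolatedInv_of_sylow S hzo hzS fun g hg => ?_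
    have key : ∀ (A : Subgroup G) (y : G), FusionChain S A y → z ∈ A → y ∈ K := by
      intro A y hy
      induction hy with
      | one A => exact fun _ => one_mem K
      | @step A R x y hR hx _ hle _ ih =>
        intro hzA
        have hxK : x ∈ K := hall _ inf_le_left (hle hzA) hx
        refine mul_mem hxK (ih ?_)
        rw [mem_cj_inv, mem_centralizer_singleton_iff.1 hxK, mul_inv_cancel_right]
        exact hzA
    have := key (zpowers z) g⁻¹ (exists_chain S (zpowers_le.2 hzS) (by
      rw [inv_inv]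
      rintro _ ⟨a, ⟨i, rfl⟩, rfl⟩
      show (MulAut.conj g) (z ^ i) ∈ (S : Subgroup G)
      rw [map_zpow]
      exact zpow_mem (show g * z * g⁻¹ ∈ (S : Subgroup G) from hg) i)) (mem_zpowers z)
    have hgK : g ∈ K := by simpa using inv_mem this
    rw [mem_centralizer_singleton_iff.1 hgK, mul_inv_cancel_right]
  have hbot : Cfsg.pPrimeCore 2 G = ⊥ := by
    refine (hc.eq_bot_or_top inferInstance).resolve_right fun h => ?_
    have h1 := Cores.not_dvd_card_pPrimeCore (p := 2) (G := G)
    rw [h, card_top] at h1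
    exact h1 hc.even
  refine hz1 (mem_bot.1 (hc.center_eq_bot ▸ Subgroup.mem_center_iff.2 fun g => ?_))
  have h1 := Invol.zStar_theorem G z hiso g
  rw [hbot, mem_bot, commutatorElement_eq_one_iff_mul_comm] at h1
  exact h1.symm

/-- The group has a strongly embedded subgroup, and every Sylow 2-subgroup contains an elementary
abelian subgroup of order at least 8. -/
theorem Crit.exists_stronglyEmbedded (hc : Crit p G) :
    (∃ M : Subgroup G, Cfsg.IsStronglyEmbedded M) ∧
      ∀ S : Sylow 2 G, ∃ B : Subgroup G, B ≤ (S : Subgroup G) ∧ Cfsg.IsElementaryAbelian 2 B ∧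
        8 ≤ Nat.card B := by
  haveI : Fact (Nat.Prime 2) := ⟨Nat.prime_two⟩
  refine ⟨?_, fun S => ⟨WS (S : Subgroup G), WS_le _, (good_WS (S : Subgroup G)).elem,
    hc.eight_le_WS S⟩⟩
  obtain ⟨S⟩ : Nonempty (Sylow 2 G) := inferInstance
  set B := WS (S : Subgroup G) with hBdef
  have hB := (good_WS (S : Subgroup G)).elem
  have hB8 : 2 ^ 3 ≤ Nat.card B := by simpa using hc.eight_le_WS S
  have hB1 : B ≠ ⊥ := fun h => by rw [h, card_bot] at hB8; norm_num at hB8
  have hFT : ∀ H : Subgroup G, Odd (Nat.card H) → Group.IsSolvable H := fun H hH =>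
    Cfsg.Agent.S0205.result hH
  have hcon : ∀ t : G, orderOf t = 2 → Cfsg.IsPConstrained 2 (centralizer ({t} : Set G)) :=
    fun t ht => hc.pConstrained_centralizer 2 fun h => by simp [h] at ht
  have hSFT : Signalizer.ConstrainedCores.TwoSFTProp.{u} := @SignalizerTwo.twoSFTProp.{u}
  set W := Signalizer.ConstrainedCores.W B with hW
  have hWodd : ¬ 2 ∣ Nat.card W :=
    (Signalizer.ConstrainedCores.complete hSFT hFT hcon hB hB8).1
  have hNB : normalizer (B : Set G) ≤ normalizer (W : Set G) := fun g hg =>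
    Signalizer.ConstrainedCores.W_le_of_mem_normalizer hg
  obtain ⟨M, hM, hNM, hWM⟩ : ∃ M : Subgroup G, M ≠ ⊤ ∧ normalizer (B : Set G) ≤ M ∧ W ≤ M := by
    by_cases hW1 : W = ⊥
    · exact ⟨_, hc.normalizer_ne_top hB1 (hc.ne_top_of_pGroup (S.2.to_le (WS_le _))), le_rfl,
        hW1 ▸ bot_le⟩
    · exact ⟨_, hc.normalizer_ne_top hW1 (fun h => hWodd (by rw [h, card_top]; exact hc.even)),
        hNB, le_normalizer⟩
  have hSB : (S : Subgroup G) ≤ normalizer (B : Set G) :=
    le_normalizer.trans (normalizer_le_normalizer_WS _)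
  have hSM : (S : Subgroup G) ≤ M := hSB.trans hNM
  have hall := hc.normalizer_le_of_cores S M (fun D => D ≠ ⊥) (fun D h => h)
    (fun T hTS hT _ => WS_ne_bot (S.2.to_le hTS) hT)
    (fun D U h hle e => h (le_bot_iff.1 (e ▸ hle)))
    (fun D h y _ e => h (by rw [← cj_inv_cj y D, e]; exact Subgroup.map_bot _))
    hNM
    (fun D hDS hD => by
      obtain ⟨q, hqD, hqo, hqc⟩ := CharTwo.exists_central_orderOf (S.2.to_le hDS) hD
      refine (hc.core_normalizer_le_theta (S.2.to_le hDS) hqD
        (fun h => by simp [h] at hqo) hqc).trans (le_trans ?_ hWM)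
      rw [← Signalizer.ConstrainedCores.inf_centralizer_eq hSFT hFT hcon hB hB8 hqo
        (hSB (hDS hqD))]
      exact inf_le_left)
  refine ⟨M, Invol.isStronglyEmbedded_of_forall hM
    (even_iff_two_dvd.2 (dvd_trans ?_ (Subgroup.card_dvd_of_le hSM))) fun g t ht htM hg => ?_⟩
  · obtain ⟨k, hk⟩ := S.2.exists_card_eq
    rw [hk]
    refine dvd_pow_self 2 fun h => ?_
    rw [h, pow_zero] at hk
    exact S.ne_bot_of_dvd_card hc.even (eq_bot_of_card_eq _ hk)
  have hconjS : ∀ a ∈ M, orderOf a = 2 → ∃ m ∈ M, m * a * m⁻¹ ∈ (S : Subgroup G) := by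
    intro a ha hao
    obtain ⟨P, hP⟩ := (IsPGroup.of_card (p := 2) (n := 1) (G := zpowers (⟨a, ha⟩ : M))
      (by rw [Nat.card_zpowers, Subgroup.orderOf_mk, hao, pow_one])).exists_le_sylow
    obtain ⟨m, hm⟩ := MulAction.exists_smul_eq M P (S.subtype hSM)
    refine ⟨m, m.2, ?_⟩
    have h1 : m * ⟨a, ha⟩ * m⁻¹ ∈ ((S.subtype hSM : Sylow 2 M) : Subgroup M) := by
      rw [← hm]
      exact ⟨⟨a, ha⟩, hP (mem_zpowers _), rfl⟩
    exact h1
  obtain ⟨m, hm, hmS⟩ := hconjS t htM ht
  obtain ⟨m', hm', hm'S⟩ := hconjS (g⁻¹ * t * g) hg (by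
    have := TwoFusion.orderOf_conj' g⁻¹ t
    rwa [inv_inv, ht] at this)
  have key : ∀ (A : Subgroup G) (y : G), FusionChain S A y → A ≠ ⊥ → y ∈ M := by
    intro A y hy
    induction hy with
    | one A => exact fun _ => one_mem M
    | @step A R x y hR hx _ hle _ ih =>
      intro hA
      refine mul_mem (hall _ inf_le_left (fun e => hA (le_bot_iff.1 (e ▸ hle))) hx) (ih fun e => ?_)
      exact hA (by rw [← cj_cj_inv x A, e]; exact Subgroup.map_bot _)
  have hy : m * g * m'⁻¹ ∈ M := key (zpowers (m * t * m⁻¹)) _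
    (exists_chain S (zpowers_le.2 hmS) (by
      rintro _ ⟨a, ⟨i, rfl⟩, rfl⟩
      show (MulAut.conj (m * g * m'⁻¹)⁻¹) ((m * t * m⁻¹) ^ i) ∈ (S : Subgroup G)
      rw [map_zpow]
      refine zpow_mem ?_ i
      have : (m * g * m'⁻¹)⁻¹ * (m * t * m⁻¹) * (m * g * m'⁻¹)⁻¹⁻¹
          = m' * (g⁻¹ * t * g) * m'⁻¹ := by group
      rw [MulAut.conj_apply, this]
      exact hm'S))
    (fun h => by
      rw [zpowers_eq_bot, conj_eq_one_iff] at h
      simp [h] at ht)
  have := M.mul_mem (M.mul_mem (inv_mem hm) hy) hm'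
  simpa [mul_assoc] using this

end Cfsg.Agent.OddPre.PPrimeNilpotent
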