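import Cfsg.Agent.OddPre.PPrimeNilpotent.Points
import Cfsg.Agent.H4.ZJFusion
import Cfsg.Agent.Stability.NaturalSection

/-!
# Counting involutions; the structure of `H` when `N_H(Z(J(P)))` is a `p`-group
-/

set_option autoImplicit false
set_option linter.style.haveILetI false

namespace Cfsg.Agent.OddPre.PPrimeNilpotent

open Subgroup Cfsg.Agent.Fusion

variable {G : Type*} [Group G] [Finite G] {p : ℕ} {H : Subgroup G}

theorem isPGroup_of_forall {X : Subgroup G} [hp : Fact p.Prime]
    (h : ∀ x ∈ X, ¬ p ∣ orderOf x → x = 1) : IsPGroup p X := by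
  refine IsPGroup.of_card (n := (Nat.card X).primeFactorsList.length)
    (Nat.eq_prime_pow_of_unique_prime_dvd Nat.card_pos.ne' fun {r} hr hd => ?_)
  by_contra hrp
  haveI := Fact.mk hr
  obtain ⟨x, hx⟩ := exists_prime_orderOf_dvd_card' r hd
  have hxo : orderOf (x : G) = r := by rwa [Subgroup.orderOf_coe]
  have h1 := h x x.2 (by
    rw [hxo]
    exact fun hd' => hrp ((Nat.prime_dvd_prime_iff_eq hp.out hr).1 hd').symm)
  rw [h1, orderOf_one] at hxo
  exact hr.ne_one hxo.symm

/-- A `p`-subgroup containing a Sylow `p`-subgroup of `H` equals it. -/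
theorem eq_of_sylow [hp : Fact p.Prime] {P T : Subgroup G} (hP : ¬ p ∣ P.relIndex H) (hPT : P ≤ T)
    (hTH : T ≤ H) (hT : IsPGroup p T) : T = P := by
  refine le_antisymm (relIndex_eq_one.1 ?_) hPT
  have hd : P.relIndex T ∣ P.relIndex H := ⟨_, (relIndex_mul_relIndex P T H hPT hTH).symm⟩
  obtain ⟨k, hk⟩ := hT.exists_card_eq
  obtain ⟨j, -, hj⟩ := (Nat.dvd_prime_pow hp.out).1 (hk ▸ relIndex_dvd_card P T)
  rcases j with _ | j
  · simpa using hj
  · exact absurd ((dvd_pow_self p j.succ_ne_zero).trans (hj ▸ hd)) hP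

/-- Orbit-stabilizer for subgroups transitive on the involutions of `H`. -/
theorem card_eq_mul_inv {T : Subgroup G} (hTH : T ≤ H) {z : G} (hz : orderOf z = 2) (hzH : z ∈ H)
    (htr : ∀ t : G, orderOf t = 2 → t ∈ H → ∃ a ∈ T, a * z * a⁻¹ = t) :
    Nat.card T = Nat.card (Inv H) * Nat.card ↥(T ⊓ centralizer ({z} : Set G)) := by
  let f : T ⧸ (centralizer ({z} : Set G)).subgroupOf T → Inv H :=
    Quotient.lift (fun a : T => (⟨(a : G) * z * (a : G)⁻¹,
      (TwoFusion.orderOf_conj' _ _).trans hz,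
      mul_mem (mul_mem (hTH a.2) hzH) (inv_mem (hTH a.2))⟩ : Inv H)) fun a b hab => by
      have h := mem_centralizer_singleton_iff.1 (mem_subgroupOf.1 (QuotientGroup.leftRel_apply.1 hab))
      push_cast at h
      refine Subtype.ext ?_
      show (a : G) * z * (a : G)⁻¹ = (b : G) * z * (b : G)⁻¹
      calc (a : G) * z * (a : G)⁻¹
          = (a : G) * (z * ((a : G)⁻¹ * (b : G))) * (b : G)⁻¹ := by group
        _ = (a : G) * (((a : G)⁻¹ * (b : G)) * z) * (b : G)⁻¹ := by rw [h]
        _ = _ := by group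
  have hf : Function.Bijective f := by
    constructor
    · intro a b
      induction a using QuotientGroup.induction_on with
      | _ a =>
      induction b using QuotientGroup.induction_on with
      | _ b =>
      intro hab
      have hab' : (a : G) * z * (a : G)⁻¹ = (b : G) * z * (b : G)⁻¹ :=
        congrArg Subtype.val hab
      refine QuotientGroup.eq.2 (mem_subgroupOf.2 (mem_centralizer_singleton_iff.2 ?_))
      push_cast
      calc (a : G)⁻¹ * (b : G) * z = (a : G)⁻¹ * ((b : G) * z * (b : G)⁻¹) * (b : G) := by group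
        _ = (a : G)⁻¹ * ((a : G) * z * (a : G)⁻¹) * (b : G) := by rw [hab']
        _ = _ := by group
    · rintro ⟨t, ht, htH⟩
      obtain ⟨a, ha, e⟩ := htr t ht htH
      exact ⟨QuotientGroup.mk ⟨a, ha⟩, Subtype.ext e⟩
  rw [← Nat.card_congr (Equiv.ofBijective f hf),
    ← Nat.card_congr (subgroupOfEquivOfLe (inf_le_left : T ⊓ centralizer ({z} : Set G) ≤ T)).toEquiv,
    inf_subgroupOf_left, Subgroup.card_eq_card_quotient_mul_card_subgroup]

/-- The number of involutions of `H` is a power of `p` greater than one. -/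
theorem Ctx.inv_card (h : Ctx p G) (hH : Cfsg.IsStronglyEmbedded H) :
    ∃ e : ℕ, 1 ≤ e ∧ Nat.card (Inv H) = p ^ e := by
  haveI : Fact (Nat.Prime 2) := ⟨Nat.prime_two⟩
  haveI := Fact.mk h.crit.prime
  obtain ⟨S, hS⟩ := exists_sylow_le hH
  obtain ⟨K, hKH, -, hKp, hKn, hKidx⟩ := h.crit.exists_hall hH.1 (bot_le (a := H))
    (by rw [card_bot]; exact h.crit.prime.not_dvd_one)
  have h2K : 2 ∣ Nat.card K := by
    have h1 : 2 ∣ Nat.card K * K.relIndex H := by
      rw [← Nat.card_congr (subgroupOfEquivOfLe hKH).toEquiv, relIndex, Subgroup.card_mul_index]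
      exact even_iff_two_dvd.1 hH.2.1
    exact (Nat.prime_two.dvd_mul.1 h1).resolve_right
      (hKidx 2 Nat.prime_two fun e => h.crit.p_ne_two e.symm)
  obtain ⟨z, hzK, hzo, hzc⟩ := CN.exists_central hKn Nat.prime_two h2K
  have hcard := card_eq_mul_inv (le_refl H) hzo (hKH hzK)
    fun t ht htH => isConj_of_mem h.crit hH hzo (hKH hzK) ht htH
  have hKC : Nat.card K ∣ Nat.card ↥(H ⊓ centralizer ({z} : Set G)) :=
    card_dvd_of_le (le_inf hKH hzc)
  have hpow : ∀ r : ℕ, r.Prime → r ∣ Nat.card (Inv H) → r = p := by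
    intro r hr hd
    by_contra hrp
    refine hKidx r hr hrp ?_
    obtain ⟨c, hc⟩ := hKC
    have e : Nat.card K * K.relIndex H = Nat.card K * (Nat.card (Inv H) * c) := by
      rw [relIndex, ← Nat.card_congr (subgroupOfEquivOfLe hKH).toEquiv, Subgroup.card_mul_index,
        hcard, hc, Nat.card_congr (subgroupOfEquivOfLe hKH).toEquiv]
      ring
    rw [Nat.eq_of_mul_eq_mul_left Nat.card_pos e]
    exact hd.mul_right c
  obtain ⟨B, hBS, hB, hB8⟩ := h.eight S
  have h3 : 2 ≤ Nat.card (Inv H) := by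
    obtain ⟨a, ha, ha1⟩ := Signalizer.exists_ne_one_of_le_card (A := B) (by omega)
    have hne : ¬ B ≤ zpowers a := fun hle => by
      have := Subgroup.card_le_of_le hle
      rw [Nat.card_zpowers, Signalizer.elemAb_orderOf hB ha ha1] at this
      omega
    obtain ⟨b, hb, hba⟩ := SetLike.not_le_iff_exists.1 hne
    have hb1 : b ≠ 1 := fun e => hba (e ▸ one_mem _)
    haveI : Nontrivial (Inv H) := ⟨⟨a, Signalizer.elemAb_orderOf hB ha ha1, hS (hBS ha)⟩,
      ⟨b, Signalizer.elemAb_orderOf hB hb hb1, hS (hBS hb)⟩, fun e =>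
        hba (by
          have e' : a = b := congrArg Subtype.val e
          rw [← e']
          exact mem_zpowers a)⟩
    exact Finite.one_lt_card
  refine ⟨(Nat.card (Inv H)).primeFactorsList.length, ?_, Nat.eq_prime_pow_of_unique_prime_dvd
    (by omega) fun {r} hr hd => hpow r hr hd⟩
  by_contra h0
  have := Nat.eq_prime_pow_of_unique_prime_dvd (p := p) (n := Nat.card (Inv H)) (by omega)
    fun {r} hr hd => hpow r hr hd
  rw [show (Nat.card (Inv H)).primeFactorsList.length = 0 by omega, pow_zero] at this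
  omega

/-- Swapped two-point groups have order divisible by `p`. -/
theorem Ctx.dvd_card_inter (h : Ctx p G) (hH : Cfsg.IsStronglyEmbedded H) {v : G}
    (hv : orderOf v = 2) (hvH : v ∉ H) : p ∣ Nat.card ↥(H ⊓ cj v H) := by
  obtain ⟨z, hz, hzH⟩ := TwoFusion.se_exists_involution hH
  obtain ⟨e, he, hm⟩ := h.inv_card hH
  rw [card_eq_mul_inv inf_le_left hz hzH fun t ht htH => exists_conj_inter hH hv hvH hz hzH ht htH,
    hm]
  exact (dvd_pow_self p (by omega)).mul_right _

theorem Crit.sl2Free' (hc : Crit p G) [hp : Fact p.Prime] {Y : Type*} [Group Y] [Finite Y]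
    (hY : Group.IsSolvable Y) : H4.SL2Free p Y := by
  rintro ⟨K, R, hR, ⟨e⟩⟩
  haveI := hY
  haveI := hR
  exact Stability.not_isPSolvable_SL (p := p) hc.five (PSolv.isPSolvable_of_isSolvable
    (Group.isSolvable_of_surjective (f := e.toMonoidHom) e.surjective))

/-- `X = O_{p'}(X) N_X(Z(J(T)))` for proper subgroups `X` with Sylow `p`-subgroup `T`. -/
theorem Crit.exists_ZJ_factor (hc : Crit p G) {X T : Subgroup G} (hX : X ≠ ⊤) (hT : IsPGroup p T)
    (hTX : T ≤ X) (hidx : ¬ p ∣ T.relIndex X) {x : G} (hx : x ∈ X) :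
    ∃ o ∈ CharTwo.coreIn p X, ∃ n ∈ normalizer (Cfsg.centerThompsonOf p T : Set G),
      n ∈ X ∧ x = o * n := by
  haveI := Fact.mk hc.prime
  haveI := hc.solv X hX
  let P : Sylow p X := (hT.comap_subtype (K := X)).toSylow hidx
  have hPT : (P : Subgroup X).map X.subtype = T := by
    show (T.subgroupOf X).map X.subtype = T
    rw [subgroupOf_map_subtype, inf_of_le_left hTX]
  set O := Cfsg.pPrimeCore p X with hO
  set π := QuotientGroup.mk' O with hπ
  have hcop : (Nat.card O).Coprime p := Cores.pPrimeCore_coprime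
  have hinj : Function.Injective (π.comp (P : Subgroup X).subtype) := by
    rw [injective_iff_map_eq_one]
    intro a ha
    exact Subtype.ext (CharTwo.eq_one_of_coprime_of_mem P.2 a.2
      (Cores.orderOf_coprime_of_mem_pPrimeCore ((QuotientGroup.eq_one_iff _).1 ha)))
  have hmap : (Cfsg.centerThompsonOf p (P : Subgroup X)).map π =
      Cfsg.centerThompsonOf p ((P : Subgroup X).map π) := by
    have h1 := Modules.map_centerThompsonOf (p := p) (f := (P : Subgroup X).subtype)
      (subtype_injective _) ⊤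
    have h2 := Modules.map_centerThompsonOf (p := p) hinj ⊤
    rw [← MonoidHom.range_eq_map, range_subtype] at h1
    rw [← h1, map_map, h2, ← map_map, ← MonoidHom.range_eq_map, range_subtype]
  have hcc := PSolv.centralizer_pCore_le (p := p)
    (PSolv.isPSolvable_of_isSolvable (inferInstance : Group.IsSolvable (X ⧸ O)))
    Cores.pPrimeCore_quotient_pPrimeCore_eq_bot
  haveI hn : (Cfsg.centerThompsonOf p ((P : Subgroup X).map π)).Normal :=
    H4.centerThompsonOf_normal hc.p_ne_two hcc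
      (P.mapSurjective (f := π) (QuotientGroup.mk'_surjective O))
      ((hc.sl2Free' (inferInstance : Group.IsSolvable (X ⧸ O))).zjStable hc.p_ne_two _)
  have hN := CharTwo.map_normalizer_mk hcop
    (P.2.to_le (Modules.centerThompsonOf_le p (P : Subgroup X)))
  rw [← hπ, hmap, normalizer_eq_top (Cfsg.centerThompsonOf p ((P : Subgroup X).map π))] at hN
  obtain ⟨n, hn', hπn⟩ : π ⟨x, hx⟩ ∈
      (normalizer (Cfsg.centerThompsonOf p (P : Subgroup X) : Set X)).map π := hN ▸ mem_top _
  have ho : (⟨x, hx⟩ : X) * n⁻¹ ∈ O := by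
    rw [← QuotientGroup.eq_one_iff]
    show π ((⟨x, hx⟩ : X) * n⁻¹) = 1
    rw [map_mul, map_inv, hπn, mul_inv_cancel]
  refine ⟨((⟨x, hx⟩ : X) * n⁻¹ : X), ⟨_, ho, rfl⟩, (n : G), ?_, n.2, by simp⟩
  have e : (Cfsg.centerThompsonOf p (P : Subgroup X)).map X.subtype =
      Cfsg.centerThompsonOf p T := by
    rw [Modules.map_centerThompsonOf X.subtype_injective, hPT]
  rw [← e]
  exact le_normalizer_map X.subtype ⟨n, hn', rfl⟩

/-- The data obtained when `N_H(Z(J(P)))` is a `p`-group. -/
structure Frame (p : ℕ) (H P : Subgroup G) : Prop where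
  comm : ∀ s t : G, orderOf s = 2 → s ∈ H → orderOf t = 2 → t ∈ H → Commute s t
  card : ∀ z : G, orderOf z = 2 → z ∈ H →
    Nat.card P = p * Nat.card ↥(P ⊓ centralizer ({z} : Set G))
  fix : ∀ z : G, orderOf z = 2 → z ∈ H → ∀ y ∈ P, Commute y z →
    ∀ t : G, orderOf t = 2 → t ∈ H → Commute y t
  cardC : ∀ z : G, orderOf z = 2 → z ∈ H →
    Nat.card H = p * Nat.card ↥(centralizer ({z} : Set G))

theorem Ctx.frame (h : Ctx p G) (hH : Cfsg.IsStronglyEmbedded H) {P : Subgroup G}
    (hP : IsPGroup p P) (hPH : P ≤ H) (hidx : ¬ p ∣ P.relIndex H)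
    (hY : ∀ x ∈ H, x ∈ normalizer (Cfsg.centerThompsonOf p P : Set G) → ¬ p ∣ orderOf x → x = 1) :
    Frame p H P := by
  haveI : Fact (Nat.Prime 2) := ⟨Nat.prime_two⟩
  haveI := Fact.mk h.crit.prime
  set K := CharTwo.coreIn p H with hK
  have hKH : K ≤ H := CharTwo.coreIn_le H
  have hKp : ¬ p ∣ Nat.card K := fun hd => h.crit.prime.ne_one
    (Nat.eq_one_of_dvd_coprimes (CharTwo.coreIn_coprime H) hd dvd_rfl)
  have hKn : Group.IsNilpotent K := h.crit.nil K hKp
  have hNP : H ⊓ normalizer (Cfsg.centerThompsonOf p P : Set G) = P := by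
    refine eq_of_sylow hidx (le_inf hPH ?_) inf_le_left
      (isPGroup_of_forall fun x hx hxp => hY x hx.1 hx.2 hxp)
    refine le_normalizer.trans ?_
    intro g hg
    rw [← cj_eq_iff_mem_normalizer] at hg ⊢
    show (Cfsg.centerThompsonOf p P).map (MulAut.conj g).toMonoidHom = _
    rw [Modules.map_centerThompsonOf (MulAut.conj g).injective]
    exact congrArg _ hg
  have hdec : ∀ x ∈ H, ∃ o ∈ K, ∃ a ∈ P, x = o * a := fun x hx => by
    obtain ⟨o, ho, n, hn, hnH, e⟩ := h.crit.exists_ZJ_factor hH.1 hP hPH hidx hx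
    exact ⟨o, ho, n, hNP.le ⟨hnH, hn⟩, e⟩
  have hinvK : ∀ t : G, orderOf t = 2 → t ∈ H → t ∈ K := by
    intro t ht htH
    obtain ⟨o, ho, a, ha, e⟩ := hdec t htH
    have hnor := CharTwo.le_normalizer_coreIn (p := p) H
    have h1 : a * a ∈ K := by
      have e2 : a * a = (a * o * a⁻¹)⁻¹ * (o⁻¹ * (t * t)) := by
        rw [e]; group
      rw [e2, TwoFusion.involution_mul_self ht, mul_one]
      exact mul_mem (inv_mem ((hnor (hPH ha) o).1 ho)) (inv_mem ho)
    have h2 : a * a = 1 := CharTwo.eq_one_of_coprime_of_mem hP (mul_mem ha ha)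
      ((CharTwo.coreIn_coprime (p := p) H).coprime_dvd_left (orderOf_dvd_natCard K h1))
    have h3 : a = 1 := by
      have hd : orderOf a ∣ 2 := orderOf_dvd_of_pow_eq_one (by rw [pow_two, h2])
      obtain ⟨k, hk⟩ := IsPGroup.iff_orderOf.1 hP ⟨a, ha⟩
      rw [Subgroup.orderOf_mk] at hk
      rcases k with _ | k
      · exact orderOf_eq_one_iff.1 (by simpa using hk)
      · exact absurd ((Nat.prime_dvd_prime_iff_eq h.crit.prime Nat.prime_two).1
          ((dvd_pow_self p k.succ_ne_zero).trans (hk ▸ hd))) h.crit.p_ne_two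
    rw [e, h3, mul_one]; exact ho
  obtain ⟨s, hs, hsH⟩ := TwoFusion.se_exists_involution hH
  obtain ⟨c, hcK, hco, hcc⟩ := CN.exists_central hKn Nat.prime_two
    (hs ▸ Subgroup.orderOf_dvd_natCard K (hinvK s hs hsH))
  have hcent : ∀ t : G, orderOf t = 2 → t ∈ H → K ≤ centralizer ({t} : Set G) := by
    intro t ht htH k hk
    obtain ⟨g, hg, e⟩ := isConj_of_mem h.crit hH hco (hKH hcK) ht htH
    have h1 : g⁻¹ * k * g ∈ K := by
      simpa using ((CharTwo.le_normalizer_coreIn (p := p) H (inv_mem hg)) k).1 hk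
    have h2 := mem_centralizer_singleton_iff.1 (hcc h1)
    refine mem_centralizer_singleton_iff.2 ?_
    rw [← e]
    calc k * (g * c * g⁻¹) = g * ((g⁻¹ * k * g) * c) * g⁻¹ := by group
      _ = g * (c * (g⁻¹ * k * g)) * g⁻¹ := by rw [h2]
      _ = _ := by group
  have htrP : ∀ z : G, orderOf z = 2 → z ∈ H → ∀ t : G, orderOf t = 2 → t ∈ H →
      ∃ a ∈ P, a * z * a⁻¹ = t := by
    intro z hz hzH t ht htH
    obtain ⟨g, hg, e⟩ := isConj_of_mem h.crit hH hz hzH ht htH
    obtain ⟨o, ho, a, ha, e2⟩ := hdec g hg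
    have ht' : orderOf (a * z * a⁻¹) = 2 := (TwoFusion.orderOf_conj' a z).trans hz
    have htH' : a * z * a⁻¹ ∈ H := mul_mem (mul_mem (hPH ha) hzH) (inv_mem (hPH ha))
    refine ⟨a, ha, ?_⟩
    have h2 := mem_centralizer_singleton_iff.1 (hcent _ ht' htH' ho)
    rw [← e, e2]
    calc a * z * a⁻¹ = o * (a * z * a⁻¹) * o⁻¹ := by rw [h2]; group
      _ = _ := by group
  have hcomm : ∀ s t : G, orderOf s = 2 → s ∈ H → orderOf t = 2 → t ∈ H → Commute s t :=
    fun s t hs hsH ht htH => mem_centralizer_singleton_iff.1 (hcent t ht htH (hinvK s hs hsH))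
  -- the number of involutions is `p`
  let E : Subgroup G :=
    { carrier := {x | x ∈ H ∧ x * x = 1}
      one_mem' := ⟨one_mem _, one_mul 1⟩
      inv_mem' := fun {x} hx => ⟨inv_mem hx.1, by rw [← mul_inv_rev, hx.2, inv_one]⟩
      mul_mem' := fun {x y} hx hy => by
        refine ⟨mul_mem hx.1 hy.1, ?_⟩
        rcases eq_or_ne x 1 with rfl | hx1
        · rw [one_mul]; exact hy.2
        rcases eq_or_ne y 1 with rfl | hy1
        · rw [mul_one]; exact hx.2
        have hxy := hcomm x y (orderOf_eq_prime (by rw [pow_two]; exact hx.2) hx1) hx.1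
          (orderOf_eq_prime (by rw [pow_two]; exact hy.2) hy1) hy.1
        rw [hxy.symm.mul_mul_mul_comm, hx.2, hy.2, one_mul] }
  have hEcard : Nat.card E = Nat.card (Inv H) + 1 := by
    have hset : (E : Set G) = insert 1 (Inv H) := by
      ext x
      constructor
      · rintro ⟨hxH, hx2⟩
        rcases eq_or_ne x 1 with e | e
        · exact Or.inl e
        · exact Or.inr ⟨orderOf_eq_prime (by rw [pow_two]; exact hx2) e, hxH⟩
      · rintro (rfl | ⟨hx2, hxH⟩)
        · exact E.one_mem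
        · exact ⟨hxH, TwoFusion.involution_mul_self hx2⟩
    show Nat.card ↥(E : Set G) = _
    rw [Nat.card_coe_set_eq, hset, Set.ncard_insert_of_notMem (fun hh => by simp at hh)
      (Set.toFinite _), Nat.card_coe_set_eq]
  obtain ⟨r, hr⟩ := (IsPGroup.iff_orderOf.2 (fun x : E => by
    have : x ^ 2 = 1 := Subtype.ext (by push_cast; rw [pow_two]; exact x.2.2)
    obtain ⟨k, -, hk⟩ := (Nat.dvd_prime_pow Nat.prime_two).1
      (show orderOf x ∣ 2 ^ 1 by rw [pow_one]; exact orderOf_dvd_of_pow_eq_one this)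
    exact ⟨k, hk⟩) : IsPGroup 2 E).exists_card_eq
  obtain ⟨e, he, hm⟩ := h.inv_card hH
  have h5 := h.crit.five
  have he1 : e = 1 := by
    refine PPrimeAbelian.two_pow_sub_one_eq_pow (r := r) (h.crit.prime.odd_of_ne_two h.crit.p_ne_two)
      h.crit.prime.one_lt ?_ (by rw [← hm, ← hr, hEcard])
    by_contra hlt
    have h1 : p ≤ Nat.card (Inv H) := hm ▸ Nat.le_self_pow (by omega) p
    have h2 : (2 : ℕ) ^ r ≤ 2 ^ 1 := Nat.pow_le_pow_right (by norm_num) (by omega)
    omega
  rw [he1, pow_one] at hm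
  have hPcard : ∀ z : G, orderOf z = 2 → z ∈ H →
      Nat.card P = p * Nat.card ↥(P ⊓ centralizer ({z} : Set G)) := fun z hz hzH => by
    rw [card_eq_mul_inv hPH hz hzH (htrP z hz hzH), hm]
  refine ⟨hcomm, hPcard, fun z hz hzH y hy hyz t ht htH => ?_, fun z hz hzH => ?_⟩
  · set C := P ⊓ centralizer ({z} : Set G) with hC
    have hne : C < P := lt_of_le_of_ne inf_le_left fun e => by
      have := hPcard z hz hzH
      rw [← hC, e] at this
      have h0 : 0 < Nat.card P := Nat.card_pos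
      nlinarith [h.crit.five]
    have hlt := lt_normalizer_inf hP hne
    have hPN : P ≤ normalizer (C : Set G) := by
      set N := P ⊓ normalizer (C : Set G) with hN
      obtain ⟨k, hk⟩ := card_dvd_of_le (hlt.le : C ≤ N)
      obtain ⟨l, hl⟩ := card_dvd_of_le (inf_le_left : N ≤ P)
      have hkl : k * l = p := by
        have := hPcard z hz hzH
        rw [← hC, hl, hk, mul_assoc, mul_comm p] at this
        exact Nat.eq_of_mul_eq_mul_left Nat.card_pos this
      have hk1 : k ≠ 1 := fun e => by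
        have := card_lt_card hlt
        rw [hk, e, mul_one] at this
        omega
      rcases (Nat.dvd_prime h.crit.prime).1 ⟨l, hkl.symm⟩ with e | e
      · exact absurd e hk1
      · have hl1 : l = 1 := by
          rw [e] at hkl
          exact (Nat.mul_eq_left h.crit.prime.ne_zero).1 hkl
        have : N = P := eq_of_le_of_card_ge inf_le_left (by rw [hl, hl1, mul_one])
        exact this ▸ inf_le_right
    obtain ⟨a, ha, e⟩ := htrP z hz hzH t ht htH
    have hy' : a⁻¹ * y * a ∈ C := by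
      simpa using ((hPN (inv_mem ha)) y).1 ⟨hy, mem_centralizer_singleton_iff.2 hyz.eq⟩
    have h2 := mem_centralizer_singleton_iff.1 hy'.2
    rw [← e]
    show y * (a * z * a⁻¹) = a * z * a⁻¹ * y
    calc y * (a * z * a⁻¹) = a * ((a⁻¹ * y * a) * z) * a⁻¹ := by group
      _ = a * (z * (a⁻¹ * y * a)) * a⁻¹ := by rw [h2]
      _ = _ := by group
  · have hCH : centralizer ({z} : Set G) ≤ H := TwoFusion.se_centralizer_le hH hz hzH
    have := card_eq_mul_inv (le_refl H) hz hzH fun t ht htH =>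
      isConj_of_mem h.crit hH hz hzH ht htH
    rwa [hm, inf_eq_right.2 hCH] at this

/-- Elements of `P` centralizing an involution of `H` have centralizer inside `H`. -/
theorem Frame.centralizer_le {P : Subgroup G} (hF : Frame p H P) (h : Ctx p G)
    (hH : Cfsg.IsStronglyEmbedded H) {z y : G} (hz : orderOf z = 2) (hzH : z ∈ H) (hy : y ∈ P)
    (hy1 : y ≠ 1) (hyz : Commute y z) : centralizer ({y} : Set G) ≤ H := by
  haveI : Fact (Nat.Prime 2) := ⟨Nat.prime_two⟩
  obtain ⟨S, hS⟩ := exists_sylow_le hH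
  obtain ⟨V, hVS, hV, hV4⟩ := h.exists_four S
  refine h.le_of_four hH (h.crit.centralizer_ne_top hy1) (V := V) (fun v hv => ?_)
    (hVS.trans hS) hV hV4
  rcases eq_or_ne v 1 with e | e
  · rw [e]; exact one_mem _
  · exact mem_centralizer_singleton_iff.2 (hF.fix z hz hzH y hy hyz v
      (Signalizer.elemAb_orderOf hV hv e) (hS (hVS hv))).symm.eq

end Cfsg.Agent.OddPre.PPrimeNilpotent
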