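import Cfsg.Agent.OddPre.PPrimeNilpotent.CaseII
import Cfsg.Agent.OddPre.PPrimeAbelian.Main

/-!
# Groups whose `p'`-subgroups are nilpotent are solvable, for a prime `p > 3`

The odd order theorem is taken as a hypothesis.
-/

set_option autoImplicit false

namespace Cfsg.Agent.OddPre.PPrimeNilpotent

open Subgroup Cfsg.Agent.Fusion

universe u

theorem not_crit {G : Type u} [Group G] [Finite G] {p : ℕ} (hc : Crit p G) : False := by
  obtain ⟨⟨H, hH⟩, h8⟩ := hc.exists_stronglyEmbedded
  have hctx : Ctx p G := ⟨hc, h8⟩
  by_cases hI : ∃ v : G, orderOf v = 2 ∧ v ∉ H ∧ ¬ p ∣ (H ⊓ cj v H).relIndex H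
  · obtain ⟨v, hv, hvH, hidx⟩ := hI
    exact CaseI.false (v := v) ⟨hctx, hH, hv, hvH, hidx⟩
  · push Not at hI
    exact hctx.caseII_false hH hI

theorem isSolvable_aux {p : ℕ} [hp : Fact p.Prime] (h5 : 5 ≤ p)
    (hFT : ∀ (K : Type u) [Group K] [Finite K], Odd (Nat.card K) → Group.IsSolvable K) :
    ∀ (n : ℕ) (G : Type u) [Group G] [Finite G], Nat.card G = n → Nilp p G →
      Group.IsSolvable G := by
  intro n
  induction n using Nat.strong_induction_on with
  | _ n ih =>
    intro G _ _ hn h
    have hsolv : ∀ L : Subgroup G, L ≠ ⊤ → Group.IsSolvable L := fun L hL =>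
      ih _ (hn ▸ lt_of_le_of_ne (Subgroup.card_le_card_group L)
        fun e => hL (Subgroup.eq_top_of_card_eq L e)) L rfl (h.subgroup L)
    by_contra hns
    by_cases hpG : p ∣ Nat.card G
    swap
    · haveI := h ⊤ (by rwa [Subgroup.card_top])
      exact hns (Group.isSolvable_of_surjective
        (f := (⊤ : Subgroup G).subtype) fun g => ⟨⟨g, mem_top g⟩, rfl⟩)
    have hsimp : ∀ N : Subgroup G, N.Normal → N = ⊥ ∨ N = ⊤ := by
      intro N hN
      by_contra hcon
      push Not at hcon
      obtain ⟨hb, ht⟩ := hcon
      haveI := hsolv N ht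
      suffices hq : Group.IsSolvable (G ⧸ N) from
        hns (Group.isSolvable_of_ker_le_range N.subtype (QuotientGroup.mk' N)
          (by rw [QuotientGroup.ker_mk', N.range_subtype]))
      have hlt : Nat.card (G ⧸ N) < n := by
        rw [← hn, Subgroup.card_eq_card_quotient_mul_card_subgroup N]
        exact lt_mul_of_one_lt_right Nat.card_pos ((one_lt_card_iff_ne_bot N).2 hb)
      by_cases hpq : p ∣ Nat.card (G ⧸ N)
      · refine ih _ hlt _ rfl fun H hH => ?_
        have hpre : Group.IsSolvable ↥(H.comap (QuotientGroup.mk' N)) := by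
          refine hsolv _ fun hh => hH ?_
          have : H = ⊤ := by
            rw [← map_comap_eq_self_of_surjective (QuotientGroup.mk'_surjective N) H, hh,
              map_top_of_surjective _ (QuotientGroup.mk'_surjective N)]
          rwa [this, Subgroup.card_top]
        obtain ⟨K, hK, rfl⟩ := PPrimeAbelian.exists_lift_coprime hp.out N H hH hpre
        haveI := h K hK
        exact Group.nilpotent_of_surjective ((QuotientGroup.mk' N).subgroupMap K)
          ((QuotientGroup.mk' N).subgroupMap_surjective K)
      · obtain ⟨P⟩ : Nonempty (Sylow p N) := inferInstance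
        set P' := (P : Subgroup N).map N.subtype with hP'
        have hfr : normalizer (P' : Set G) ⊔ N = ⊤ := Sylow.normalizer_sup_eq_top P
        by_cases hnt : normalizer (P' : Set G) = ⊤
        · haveI hP'n : P'.Normal := Subgroup.normalizer_eq_top_iff.1 hnt
          have hidx : ¬ p ∣ P'.index := by
            rw [hP', index_map_subtype]
            exact fun hd => (hp.out.dvd_mul.1 hd).elim P.not_dvd_index
              (fun h' => hpq (by rwa [Subgroup.index] at h'))
          have hPp : IsPGroup p P' := P.2.map _
          have hcop : (Nat.card P').Coprime P'.index := by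
            obtain ⟨k, hk⟩ := hPp.exists_card_eq
            rw [hk]
            exact (hp.out.coprime_iff_not_dvd.2 hidx).pow_left k
          obtain ⟨C, hC⟩ := Subgroup.exists_right_complement'_of_coprime hcop
          have hCp : ¬ p ∣ Nat.card C := by rwa [hC.symm.index_eq_card] at hidx
          have hsurj : Function.Surjective ((QuotientGroup.mk' P').comp C.subtype) := by
            intro q
            obtain ⟨g, rfl⟩ := QuotientGroup.mk'_surjective P' q
            obtain ⟨x, hx, c, hc, rfl⟩ := Subgroup.mem_sup_of_normal_left.1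
              (hC.sup_eq_top.symm ▸ mem_top g : g ∈ P' ⊔ C)
            refine ⟨⟨c, hc⟩, ?_⟩
            show QuotientGroup.mk' P' c = QuotientGroup.mk' P' (x * c)
            rw [map_mul, show QuotientGroup.mk' P' x = 1 from (QuotientGroup.eq_one_iff _).2 hx,
              one_mul]
          haveI := h C hCp
          haveI := Group.isSolvable_of_surjective hsurj
          haveI := hPp.isNilpotent
          exact absurd (Group.isSolvable_of_ker_le_range P'.subtype (QuotientGroup.mk' P')
            (by rw [QuotientGroup.ker_mk', P'.range_subtype])) hns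
        · haveI := hsolv _ hnt
          refine Group.isSolvable_of_surjective
            (f := (QuotientGroup.mk' N).comp (normalizer (P' : Set G)).subtype) fun q => ?_
          obtain ⟨g, rfl⟩ := QuotientGroup.mk'_surjective N q
          obtain ⟨x, hx, m, hm, rfl⟩ := Subgroup.mem_sup_of_normal_right.1
            (hfr.symm ▸ mem_top g : g ∈ normalizer (P' : Set G) ⊔ N)
          refine ⟨⟨x, hx⟩, ?_⟩
          show QuotientGroup.mk' N x = QuotientGroup.mk' N (x * m)
          rw [map_mul, show QuotientGroup.mk' N m = 1 from (QuotientGroup.eq_one_iff _).2 hm,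
            mul_one]
    haveI : Nontrivial G := by
      by_contra hnt
      rw [not_nontrivial_iff_subsingleton] at hnt
      exact hns inferInstance
    refine not_crit (p := p) ⟨h5, hp.out, h, ⟨hsimp⟩, hsolv, hns, ?_⟩
    by_contra hev
    exact hns (hFT G (Nat.odd_iff.2 (by omega)))

/-- The theorem, assuming the odd order theorem. -/
theorem isSolvable_of_nilp {p : ℕ} [Fact p.Prime] (h5 : 5 ≤ p) {G : Type u} [Group G] [Finite G]
    (hFT : ∀ (K : Type u) [Group K] [Finite K], Odd (Nat.card K) → Group.IsSolvable K)
    (h : Nilp p G) : Group.IsSolvable G :=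
  isSolvable_aux h5 hFT _ G rfl h

end Cfsg.Agent.OddPre.PPrimeNilpotent
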