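import Cfsg.Agent.OddPre.PPrimeNilpotent.Embedded
import Cfsg.Agent.Lib.Hall

/-!
# Points: strongly embedded subgroups of a minimal counterexample
-/

set_option autoImplicit false
set_option linter.style.haveILetI false

namespace Cfsg.Agent.OddPre.PPrimeNilpotent

open Subgroup Cfsg.Agent.Fusion
open Cfsg.Agent.LAE60.W (WS WS_le WS_ne_bot)

variable {G : Type*} [Group G] [Finite G] {p : ℕ}

/-- The working hypotheses. -/
structure Ctx (p : ℕ) (G : Type*) [Group G] : Prop where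
  crit : Crit p G
  eight : ∀ S : Sylow 2 G, ∃ B : Subgroup G, B ≤ (S : Subgroup G) ∧
    Cfsg.IsElementaryAbelian 2 B ∧ 8 ≤ Nat.card B

omit [Finite G] in
theorem exists_prime_pow_eq {x : G} {r : ℕ} (hd : r ∣ orderOf x) (hx : 0 < orderOf x) :
    ∃ k : ℕ, orderOf (x ^ k) = r := by
  refine ⟨orderOf x / r, ?_⟩
  rw [orderOf_pow' x (Nat.div_pos (Nat.le_of_dvd hx hd) (Nat.pos_of_dvd_of_pos hd hx)).ne',
    Nat.gcd_eq_right (Nat.div_dvd_of_dvd hd), Nat.div_div_self hd hx.ne']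

/-- Hall `p'`-subgroups of proper subgroups. -/
theorem Crit.exists_hall (hc : Crit p G) {X : Subgroup G} (hX : X ≠ ⊤) {Y : Subgroup G}
    (hY : Y ≤ X) (hYp : ¬ p ∣ Nat.card Y) :
    ∃ K : Subgroup G, K ≤ X ∧ Y ≤ K ∧ ¬ p ∣ Nat.card K ∧ Group.IsNilpotent K ∧
      ∀ r : ℕ, r.Prime → r ≠ p → ¬ r ∣ K.relIndex X := by
  haveI := hc.solv X hX
  obtain ⟨K, hK, hle⟩ := Hall.exists_isPiHall_ge (π := {r : ℕ | r ≠ p}) (S := Y.subgroupOf X)
    fun r hr hd e => hYp (by
      subst e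
      rwa [Nat.card_congr (subgroupOfEquivOfLe hY).toEquiv] at hd)
  have hcard : ¬ p ∣ Nat.card (K.map X.subtype) := by
    rw [card_map_of_injective X.subtype_injective]
    exact fun hd => hK.1 p hc.prime hd rfl
  refine ⟨K.map X.subtype, map_subtype_le K, ?_, hcard, hc.nil _ hcard, fun r hr hrp hd => ?_⟩
  · intro y hy
    exact ⟨⟨y, hY hy⟩, hle hy, rfl⟩
  · rw [relIndex, subgroupOf, comap_map_eq_self_of_injective X.subtype_injective] at hd
    exact hK.2 r hr hrp hd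

variable {H : Subgroup G}

theorem exists_sylow_le (hH : Cfsg.IsStronglyEmbedded H) :
    ∃ S : Sylow 2 G, (S : Subgroup G) ≤ H := by
  haveI : Fact (Nat.Prime 2) := ⟨Nat.prime_two⟩
  obtain ⟨P⟩ : Nonempty (Sylow 2 H) := inferInstance
  set P' := (P : Subgroup H).map H.subtype with hP'
  have hPp : IsPGroup 2 P' := P.2.map _
  have hev : Even (Nat.card P') := by
    rw [hP', card_map_of_injective H.subtype_injective, P.card_eq_multiplicity, Nat.even_pow]
    exact ⟨even_two, (Nat.prime_two.factorization_pos_of_dvd Nat.card_pos.ne'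
      (even_iff_two_dvd.1 hH.2.1)).ne'⟩
  obtain ⟨S, hS⟩ := hPp.exists_le_sylow
  refine ⟨S, fun s hs => ?_⟩
  by_contra hsH
  have hlt : P' < (S : Subgroup G) := lt_of_le_of_ne hS fun e => hsH (map_subtype_le _ (e ▸ hs))
  have h1 := lt_normalizer_inf S.2 hlt
  have hle : ((S : Subgroup G) ⊓ normalizer (P' : Set G)) ≤ H :=
    inf_le_right.trans (Invol.IsStronglyEmbedded.normalizer_le hH (map_subtype_le _) hev)
  have heq := P.3 ((S.2.to_le (inf_le_left :
    (S : Subgroup G) ⊓ normalizer (P' : Set G) ≤ S)).comap_subtype (K := H))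
    (fun a ha => h1.le ⟨a, ha, rfl⟩)
  refine h1.ne (le_antisymm h1.le fun a ha => ⟨⟨a, hle ha⟩, heq ▸ ha, rfl⟩)

theorem se_conj (hH : Cfsg.IsStronglyEmbedded H) (g : G) :
    Cfsg.IsStronglyEmbedded (cj g H) := by
  refine Invol.isStronglyEmbedded_of_forall (fun h => hH.1 ?_) (by rw [card_cj]; exact hH.2.1)
    fun x t ht htH hx => ?_
  · rw [← cj_inv_cj g H, h, cj_eq_of_normal]
  · rw [mem_cj] at htH hx ⊢
    refine Invol.IsStronglyEmbedded.mem_of_conj hH (t := g⁻¹ * t * g) ?_ htH ?_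
    · have := TwoFusion.orderOf_conj' g⁻¹ t
      rwa [inv_inv, ht] at this
    · have e : (g⁻¹ * x * g)⁻¹ * (g⁻¹ * t * g) * (g⁻¹ * x * g) = g⁻¹ * (x⁻¹ * t * x) * g := by group
      rw [e]; exact hx

/-- Every involution lies in some conjugate. -/
theorem exists_cj_mem (hH : Cfsg.IsStronglyEmbedded H) {t : G} (ht : orderOf t = 2) :
    ∃ g : G, t ∈ cj g H := by
  haveI : Fact (Nat.Prime 2) := ⟨Nat.prime_two⟩
  obtain ⟨S, hS⟩ := exists_sylow_le hH
  obtain ⟨S', hS'⟩ := (IsPGroup.of_card (p := 2) (n := 1) (G := zpowers t)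
    (by rw [Nat.card_zpowers, ht, pow_one])).exists_le_sylow
  obtain ⟨g, hg⟩ := MulAction.exists_smul_eq G S S'
  refine ⟨g, ?_⟩
  have : t ∈ cj g (S : Subgroup G) := by
    have h := hS' (mem_zpowers t)
    rw [← hg] at h
    exact h
  exact cj_mono g hS this

theorem Ctx.exists_four (h : Ctx p G) (S : Sylow 2 G) :
    ∃ V : Subgroup G, V ≤ (S : Subgroup G) ∧ Cfsg.IsElementaryAbelian 2 V ∧ 4 ≤ Nat.card V := by
  obtain ⟨B, hB, hel, h8⟩ := h.eight S
  exact ⟨B, hB, hel, le_trans (by norm_num) h8⟩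

/-- A solvable subgroup meeting `H` in a four-group lies in `H`. -/
theorem Ctx.le_of_four (h : Ctx p G) (hH : Cfsg.IsStronglyEmbedded H) {X : Subgroup G}
    (hX : X ≠ ⊤) {V : Subgroup G} (hVX : V ≤ X) (hVH : V ≤ H)
    (hV : Cfsg.IsElementaryAbelian 2 V) (hV4 : 4 ≤ Nat.card V) : X ≤ H := by
  haveI : Fact (Nat.Prime 2) := ⟨Nat.prime_two⟩
  obtain ⟨P, hP⟩ := ((Signalizer.elemAb_isPGroup hV).comap_subtype (K := X)).exists_le_sylow
  set T := (P : Subgroup X).map X.subtype with hT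
  have hVT : V ≤ T := fun v hv => ⟨⟨v, hVX hv⟩, hP hv, rfl⟩
  have hTp : IsPGroup 2 T := P.2.map _
  obtain ⟨a, ha, ha1⟩ := Signalizer.exists_ne_one_of_le_card (A := V) (by omega)
  have hao : orderOf a = 2 := Signalizer.elemAb_orderOf hV ha ha1
  have hTne : T ≠ ⊥ := fun e => ha1 (mem_bot.1 (e ▸ hVT ha))
  obtain ⟨c, hcT, hco, hcc⟩ := CharTwo.exists_central_orderOf hTp hTne
  have hcH : c ∈ H := TwoFusion.se_mem_of_commute hH hao (hVH ha) (hcc a (hVT ha))
  have hTH : T ≤ H := fun t ht =>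
    TwoFusion.se_centralizer_le hH hco hcH (mem_centralizer_singleton_iff.2 (hcc t ht))
  have hmax : ∀ R : Subgroup G, R ≤ X → IsPGroup 2 R → T ≤ R → R = T := by
    intro R hR hRp hle
    have := P.3 (hRp.comap_subtype (K := X)) fun a ha => hle ⟨a, ha, rfl⟩
    refine le_antisymm (fun r hr => ?_) hle
    exact ⟨⟨r, hR hr⟩, this ▸ hr, rfl⟩
  have hWH : WS T ≤ H := (WS_le T).trans hTH
  have hWev : Even (Nat.card (WS T)) := by
    obtain ⟨k, hk⟩ := (hTp.to_le (WS_le T)).exists_card_eq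
    rw [hk, Nat.even_pow]
    refine ⟨even_two, fun e => WS_ne_bot hTp hTne (eq_bot_of_card_eq _ ?_)⟩
    rw [hk, e, pow_zero]
  have hO : CharTwo.coreIn 2 X ≤ H := by
    refine Signalizer.le_of_forall_centralizer hV hV4 (hVX.trans (CharTwo.le_normalizer_coreIn X))
      (fun hd => ?_) fun b hb hb1 => inf_le_right.trans
        (TwoFusion.se_centralizer_le hH (Signalizer.elemAb_orderOf hV hb hb1) (hVH hb))
    have := Nat.eq_one_of_dvd_coprimes (CharTwo.coreIn_coprime X) hd dvd_rfl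
    omega
  intro x hx
  obtain ⟨o, ho, n, hn, -, rfl⟩ := h.crit.le_core_sup_WS hX hTp (map_subtype_le _) hmax hx
  exact mul_mem (hO ho) (Invol.IsStronglyEmbedded.normalizer_le hH hWH hWev hn)

/-- Centralizers and fusion of nontrivial `p'`-elements of `H`. -/
theorem Ctx.pPrime_facts (h : Ctx p G) (hH : Cfsg.IsStronglyEmbedded H) {x : G} (hx : x ∈ H)
    (hx1 : x ≠ 1) (hxp : ¬ p ∣ orderOf x) :
    centralizer ({x} : Set G) ≤ H ∧ ∀ g : G, g⁻¹ * x * g ∈ H → g ∈ H := by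
  haveI : Fact (Nat.Prime 2) := ⟨Nat.prime_two⟩
  -- odd prime order elements centralize a Sylow 2-subgroup of `H`
  have key : ∀ (r : ℕ) (y : G), r.Prime → r ≠ p → r ≠ 2 → y ∈ H → orderOf y = r →
      ∃ S : Sylow 2 G, (S : Subgroup G) ≤ H ∧ (S : Subgroup G) ≤ centralizer ({y} : Set G) := by
    intro r y hr hrp hr2 hy hyo
    obtain ⟨K, hKH, hyK, hKp, hKn, hKidx⟩ := h.crit.exists_hall hH.1 (zpowers_le.2 hy)
      (by rw [Nat.card_zpowers, hyo]
          exact fun hd => hrp ((Nat.prime_dvd_prime_iff_eq h.crit.prime hr).1 hd).symm)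
    obtain ⟨S, hS⟩ := exists_sylow_le hH
    obtain ⟨P⟩ : Nonempty (Sylow 2 K) := inferInstance
    set P' := (P : Subgroup K).map K.subtype
    obtain ⟨Q, hQ⟩ := (P.2.map K.subtype).exists_le_sylow
    have hcard : Nat.card (S : Subgroup G) ∣ Nat.card P' := by
      rw [card_map_of_injective K.subtype_injective]
      obtain ⟨k, hk⟩ := S.2.exists_card_eq
      rw [hk]
      have h1 : 2 ^ k ∣ Nat.card K * K.relIndex H := by
        rw [← Nat.card_congr (subgroupOfEquivOfLe hKH).toEquiv, relIndex,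
          Subgroup.card_mul_index, ← hk]
        exact card_dvd_of_le hS
      have h2 : (2 ^ k).Coprime (K.relIndex H) := Nat.Coprime.pow_left _
        ((Nat.prime_two.coprime_iff_not_dvd).2 (hKidx 2 Nat.prime_two fun e =>
          h.crit.p_ne_two e.symm))
      rw [P.card_eq_multiplicity]
      have h3 := h2.dvd_of_dvd_mul_right h1
      exact Nat.pow_dvd_pow 2 ((Nat.prime_two.pow_dvd_iff_le_factorization Nat.card_pos.ne').1 h3)
    have hQP : P' = (Q : Subgroup G) := by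
      refine eq_of_le_of_card_ge hQ ?_
      have e : Nat.card (Q : Subgroup G) = Nat.card (S : Subgroup G) := by
        rw [Q.card_eq_multiplicity, S.card_eq_multiplicity]
      rw [e]
      exact Nat.le_of_dvd Nat.card_pos hcard
    refine ⟨Q, hQP ▸ (map_subtype_le _).trans hKH, fun a ha => ?_⟩
    rw [← hQP] at ha
    obtain ⟨a', ha', rfl⟩ := ha
    obtain ⟨k, hk⟩ := IsPGroup.iff_orderOf.1 P.2 ⟨a', ha'⟩
    rw [Subgroup.orderOf_mk] at hk
    refine mem_centralizer_singleton_iff.2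
      (h.crit.commute_of_coprime hKp a'.2 (hyK (mem_zpowers y)) ?_).eq
    show (orderOf (a' : G)).Coprime (orderOf y)
    rw [Subgroup.orderOf_coe, hk, hyo]
    exact ((Nat.coprime_primes Nat.prime_two hr).2 (Ne.symm hr2)).pow_left k
  obtain ⟨r, hr, hrd⟩ := Nat.exists_prime_and_dvd (n := orderOf x)
    (fun e => hx1 (orderOf_eq_one_iff.1 e))
  have hrp : r ≠ p := fun e => hxp (e ▸ hrd)
  obtain ⟨k, hk⟩ := exists_prime_pow_eq hrd (orderOf_pos x)
  have hyH : x ^ k ∈ H := pow_mem hx k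
  suffices hs : centralizer ({x ^ k} : Set G) ≤ H ∧
      ∀ g : G, g⁻¹ * x ^ k * g ∈ H → g ∈ H by
    refine ⟨fun c hc => hs.1 (mem_centralizer_singleton_iff.2
      ((Commute.pow_right (mem_centralizer_singleton_iff.1 hc : Commute c x) k)).eq),
      fun g hg => hs.2 g ?_⟩
    have e : g⁻¹ * x ^ k * g = (g⁻¹ * x * g) ^ k := by
      simpa using (conj_pow (a := g⁻¹) (b := x) (i := k)).symm
    rw [e]
    exact pow_mem hg k
  by_cases hr2 : r = 2
  · subst hr2
    exact ⟨TwoFusion.se_centralizer_le hH hk hyH, fun g hg =>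
      Invol.IsStronglyEmbedded.mem_of_conj hH hk hyH hg⟩
  have hy1 : x ^ k ≠ 1 := fun e => by
    rw [e, orderOf_one] at hk
    exact hr.ne_one hk.symm
  obtain ⟨S, hSH, hSC⟩ := key r _ hr hrp hr2 hyH hk
  obtain ⟨V, hVS, hV, hV4⟩ := h.exists_four S
  have hCH : centralizer ({x ^ k} : Set G) ≤ H :=
    h.le_of_four hH (h.crit.centralizer_ne_top hy1) (hVS.trans hSC) (hVS.trans hSH) hV hV4
  refine ⟨hCH, fun g hg => ?_⟩
  obtain ⟨S', hS'H, hS'C⟩ := key r _ hr hrp hr2 hg (by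
    have := TwoFusion.orderOf_conj' g⁻¹ (x ^ k)
    rw [inv_inv] at this
    rw [this, hk])
  obtain ⟨a, ha⟩ := exists_prime_orderOf_dvd_card' (G := (S' : Subgroup G)) 2 (by
    obtain ⟨V', hV'S, -, hV'4⟩ := h.exists_four S'
    obtain ⟨j, hj⟩ := S'.2.exists_card_eq
    rw [hj]
    refine dvd_pow_self 2 fun e => ?_
    have := Subgroup.card_le_of_le hV'S
    rw [hj, e, pow_zero] at this
    omega)
  have hao : orderOf (a : G) = 2 := by rwa [Subgroup.orderOf_coe]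
  refine TwoFusion.se_mem_of_conj_mem hH hao (hS'H a.2) (hCH (mem_centralizer_singleton_iff.2 ?_))
  have hc : (a : G) * (g⁻¹ * x ^ k * g) = (g⁻¹ * x ^ k * g) * a :=
    mem_centralizer_singleton_iff.1 (hS'C a.2)
  calc g * (a : G) * g⁻¹ * x ^ k = g * ((a : G) * (g⁻¹ * x ^ k * g)) * g⁻¹ := by group
    _ = g * ((g⁻¹ * x ^ k * g) * (a : G)) * g⁻¹ := by rw [hc]
    _ = _ := by group

/-- Two-point groups are `p`-groups. -/
theorem Ctx.inter_pGroup (h : Ctx p G) (hH : Cfsg.IsStronglyEmbedded H) {g : G} (hg : g ∉ H) :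
    IsPGroup p ↥(H ⊓ cj g H) := by
  haveI := Fact.mk h.crit.prime
  refine IsPGroup.of_card (n := (Nat.card ↥(H ⊓ cj g H)).primeFactorsList.length)
    (Nat.eq_prime_pow_of_unique_prime_dvd Nat.card_pos.ne' fun {r} hr hd => ?_)
  by_contra hrp
  haveI := Fact.mk hr
  obtain ⟨x, hx⟩ := exists_prime_orderOf_dvd_card' r hd
  have hxo : orderOf (x : G) = r := by rwa [Subgroup.orderOf_coe]
  refine hg ((h.pPrime_facts hH x.2.1 ?_ ?_).2 g (mem_cj.1 x.2.2))
  · intro e; rw [e, orderOf_one] at hxo; exact hr.ne_one hxo.symm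
  · rw [hxo]
    exact fun hd' => hrp ((Nat.prime_dvd_prime_iff_eq h.crit.prime hr).1 hd').symm

/-- The involutions of `H`. -/
abbrev Inv (H : Subgroup G) : Set G := {t : G | orderOf t = 2 ∧ t ∈ H}

theorem exists_inv_not_mem (hc : Crit p G) (hH : Cfsg.IsStronglyEmbedded H) :
    ∃ i : G, orderOf i = 2 ∧ i ∉ H := by
  by_contra hno
  push Not at hno
  obtain ⟨t, ht, htH⟩ := TwoFusion.se_exists_involution hH
  have hle : Subgroup.normalClosure {a : G | orderOf a = 2} ≤ H := by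
    refine (Subgroup.closure_le H).2 fun x hx => ?_
    obtain ⟨a, ha, hax⟩ := Group.mem_conjugatesOfSet_iff.1 hx
    obtain ⟨c, rfl⟩ := isConj_iff.1 hax
    exact hno _ ((TwoFusion.orderOf_conj' c a).trans ha)
  rcases hc.eq_bot_or_top (Subgroup.normalClosure_normal (s := {a : G | orderOf a = 2})) with e | e
  · have : t ∈ Subgroup.normalClosure {a : G | orderOf a = 2} := Subgroup.subset_normalClosure ht
    rw [e, mem_bot] at this
    simp [this] at ht
  · exact hH.1 (top_le_iff.1 (e ▸ hle))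

theorem isConj_of_mem (hc : Crit p G) (hH : Cfsg.IsStronglyEmbedded H) {s t : G}
    (hs : orderOf s = 2) (hsH : s ∈ H) (ht : orderOf t = 2) (htH : t ∈ H) :
    ∃ g ∈ H, g * s * g⁻¹ = t := by
  obtain ⟨i, hi, hiH⟩ := exists_inv_not_mem hc hH
  obtain ⟨v, hv, hvs, -⟩ := TwoFusion.se_exists_swap hH hs hsH hi hiH
  obtain ⟨w, hw, hwt, -⟩ := TwoFusion.se_exists_swap hH ht htH hi hiH
  have e : w⁻¹ * v * s * (w⁻¹ * v)⁻¹ = t := by
    rw [show w⁻¹ * v * s * (w⁻¹ * v)⁻¹ = w⁻¹ * (v * s * v⁻¹) * w by group, hvs, ← hwt]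
    group
  exact ⟨w⁻¹ * v, TwoFusion.se_mem_of_conj_mem hH hs hsH (e ▸ htH), e⟩

/-- There is an involution carrying `H` to a given conjugate. -/
theorem exists_swapper (hH : Cfsg.IsStronglyEmbedded H) {g z : G} (hz : orderOf z = 2)
    (hzH : z ∈ H) (hg : g ∉ H) :
    ∃ v : G, orderOf v = 2 ∧ v ∉ H ∧ g⁻¹ * v ∈ H ∧ v * z * v⁻¹ = g * z * g⁻¹ := by
  obtain ⟨v, hv, hvz, hvH⟩ := TwoFusion.se_exists_swap hH hz hzH
    ((TwoFusion.orderOf_conj' g z).trans hz)
    (fun h => hg (TwoFusion.se_mem_of_conj_mem hH hz hzH h))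
  refine ⟨v, hv, hvH, TwoFusion.se_centralizer_le hH hz hzH (mem_centralizer_singleton_iff.2 ?_),
    hvz⟩
  calc g⁻¹ * v * z = g⁻¹ * (v * z * v⁻¹) * v := by group
    _ = g⁻¹ * (g * z * g⁻¹) * v := by rw [hvz]
    _ = _ := by group

/-- `H ∩ vHv` is transitive on the involutions of `H`. -/
theorem exists_conj_inter (hH : Cfsg.IsStronglyEmbedded H) {v s t : G} (hv : orderOf v = 2)
    (hvH : v ∉ H) (hs : orderOf s = 2) (hsH : s ∈ H) (ht : orderOf t = 2) (htH : t ∈ H) :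
    ∃ d ∈ H ⊓ cj v H, d * s * d⁻¹ = t := by
  have hv' := TwoFusion.involution_inv hv
  have hi : orderOf (v * t * v⁻¹) = 2 := (TwoFusion.orderOf_conj' v t).trans ht
  have hiH : v * t * v⁻¹ ∉ H := fun h => hvH (TwoFusion.se_mem_of_conj_mem hH ht htH h)
  obtain ⟨w, hw, hws, -⟩ := TwoFusion.se_exists_swap hH hs hsH hi hiH
  have hw' := TwoFusion.involution_inv hw
  have e : v⁻¹ * w * s * (v⁻¹ * w)⁻¹ = t := by
    rw [show v⁻¹ * w * s * (v⁻¹ * w)⁻¹ = v⁻¹ * (w * s * w⁻¹) * v by group, hws]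
    group
  have hd : v⁻¹ * w ∈ H := TwoFusion.se_mem_of_conj_mem hH hs hsH (e ▸ htH)
  refine ⟨v⁻¹ * w, ⟨hd, mem_cj.2 ?_⟩, e⟩
  have e2 : v⁻¹ * (v⁻¹ * w) * v = (v⁻¹ * w)⁻¹ := by
    rw [mul_inv_rev, inv_inv, hw', hv', ← mul_assoc, TwoFusion.involution_mul_self hv, one_mul]
  rw [e2]
  exact inv_mem hd

/-- An involution of `H` cannot normalize a `p`-subgroup transitive on the involutions of `H`. -/
theorem Ctx.no_inverter (h : Ctx p G) (hH : Cfsg.IsStronglyEmbedded H) {v : G}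
    (hv : orderOf v = 2) (hvH : v ∈ H) {D : Subgroup G} (hD : IsPGroup p D)
    (hvD : v ∈ normalizer (D : Set G))
    (htr : ∀ s t : G, orderOf s = 2 → s ∈ H → orderOf t = 2 → t ∈ H →
      ∃ d ∈ D, d * s * d⁻¹ = t) : False := by
  haveI : Fact (Nat.Prime 2) := ⟨Nat.prime_two⟩
  obtain ⟨S, hS⟩ := exists_sylow_le hH
  obtain ⟨V, hVS, hV, hV4⟩ := h.exists_four S
  obtain ⟨a, ha, ha1⟩ := Signalizer.exists_ne_one_of_le_card (A := V) (by omega)
  have hne : ¬ V ≤ zpowers a := fun hle => by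
    have := Subgroup.card_le_of_le hle
    rw [Nat.card_zpowers, Signalizer.elemAb_orderOf hV ha ha1] at this
    omega
  obtain ⟨b, hb, hba⟩ := SetLike.not_le_iff_exists.1 hne
  have hb1 : b ≠ 1 := fun e => hba (e ▸ one_mem _)
  have hab : a * b ≠ 1 := fun e => hba (by
    rw [show b = a⁻¹ from eq_inv_of_mul_eq_one_right e]
    exact inv_mem (mem_zpowers a))
  have habo : orderOf (a * b) = 2 := Signalizer.elemAb_orderOf hV (mul_mem ha hb) hab
  obtain ⟨d₁, hd₁, e₁⟩ :=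
    htr v a hv hvH (Signalizer.elemAb_orderOf hV ha ha1) (hS (hVS ha))
  obtain ⟨d₂, hd₂, e₂⟩ :=
    htr v b hv hvH (Signalizer.elemAb_orderOf hV hb hb1) (hS (hVS hb))
  have hmem : a * b ∈ D := by
    have e : a * b = d₁ * (v * (d₁⁻¹ * d₂) * v⁻¹) * d₂⁻¹ := by
      rw [← e₁, ← e₂,
        show d₂ * v * d₂⁻¹ = d₂ * v⁻¹ * d₂⁻¹ by rw [TwoFusion.involution_inv hv]]
      group
    rw [e]
    exact mul_mem (mul_mem hd₁ ((hvD _).1 (mul_mem (inv_mem hd₁) hd₂))) (inv_mem hd₂)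
  haveI := Fact.mk h.crit.prime
  obtain ⟨k, hk⟩ := hD.exists_card_eq
  have := orderOf_dvd_natCard D hmem
  rw [habo, hk] at this
  exact h.crit.p_ne_two
    ((Nat.prime_dvd_prime_iff_eq Nat.prime_two h.crit.prime).1 (Nat.prime_two.dvd_of_dvd_pow this)).symm

/-- A solvable subgroup with nontrivial `p'`-core containing an involution of `H` lies in `H`. -/
theorem Ctx.le_of_core (h : Ctx p G) (hH : Cfsg.IsStronglyEmbedded H) {X : Subgroup G}
    (hX : X ≠ ⊤) {u : G} (hu : orderOf u = 2) (huX : u ∈ X) (huH : u ∈ H)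
    (hR : CharTwo.coreIn p X ≠ ⊥) : X ≤ H := by
  haveI : Fact (Nat.Prime 2) := ⟨Nat.prime_two⟩
  haveI := Fact.mk h.crit.prime
  set R := CharTwo.coreIn p X with hRdef
  have hRp : ¬ p ∣ Nat.card R := fun hd => by
    have := Nat.eq_one_of_dvd_coprimes (CharTwo.coreIn_coprime X) hd dvd_rfl
    exact h.crit.prime.ne_one this
  have hu2 : ¬ p ∣ orderOf u := by
    rw [hu]
    exact fun hd => h.crit.p_ne_two ((Nat.prime_dvd_prime_iff_eq h.crit.prime Nat.prime_two).1 hd)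
  have hL : ¬ p ∣ Nat.card ↥(zpowers u ⊔ R) := fun hd => by
    have := hd.trans (OddLocal.card_sup_dvd_mul_of_normalizes
      (zpowers_le.2 (CharTwo.le_normalizer_coreIn X huX)))
    rw [Nat.card_zpowers] at this
    exact (h.crit.prime.dvd_mul.1 this).elim hu2 hRp
  obtain ⟨c, hcL, hco, hcc⟩ := CN.exists_central (h.crit.nil _ hL) Nat.prime_two
    (hu ▸ Subgroup.orderOf_dvd_natCard _ (mem_sup_left (mem_zpowers u)))
  have hcH : c ∈ H := TwoFusion.se_mem_of_commute hH hu huH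
    (mem_centralizer_singleton_iff.1 (hcc (mem_sup_left (mem_zpowers u))))
  have hRH : R ≤ H := fun r hr => TwoFusion.se_centralizer_le hH hco hcH (hcc (mem_sup_right hr))
  obtain ⟨⟨x, hxR⟩, hx1'⟩ := ne_bot_iff_exists_ne_one.1 hR
  have hx1 : x ≠ 1 := fun e => hx1' (Subtype.ext e)
  intro g hg
  refine (h.pPrime_facts hH (hRH hxR) hx1
    fun hd => hRp (hd.trans (Subgroup.orderOf_dvd_natCard R hxR))).2 g (hRH ?_)
  simpa using ((CharTwo.le_normalizer_coreIn X (inv_mem hg)) x).1 hxR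

/-- A solvable subgroup whose Sylow `p`-subgroup lies in `H` and which meets `H` in a nontrivial
`p'`-element lies in `H`. -/
theorem Ctx.le_of_pPrime (h : Ctx p G) (hH : Cfsg.IsStronglyEmbedded H) {X : Subgroup G}
    (hX : X ≠ ⊤) {P : Subgroup G} (_hPX : P ≤ X) (hPH : P ≤ H) (hP : ¬ p ∣ P.relIndex X)
    {x : G} (hxX : x ∈ X) (hxH : x ∈ H) (hx1 : x ≠ 1) (hxp : ¬ p ∣ orderOf x) : X ≤ H := by
  obtain ⟨K, hKX, hxK, hKp, hKn, hKidx⟩ := h.crit.exists_hall hX (zpowers_le.2 hxX)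
    (by rwa [Nat.card_zpowers])
  obtain ⟨r, hr, hrd⟩ := Nat.exists_prime_and_dvd (n := Nat.card K) fun e =>
    hx1 (mem_bot.1 (eq_bot_of_card_eq _ e ▸ hxK (mem_zpowers x)))
  obtain ⟨c, hcK, hco, hcc⟩ := CN.exists_central hKn hr hrd
  have hcH : c ∈ H := (h.pPrime_facts hH hxH hx1 hxp).1 (mem_centralizer_singleton_iff.2
    (mem_centralizer_singleton_iff.1 (hcc (hxK (mem_zpowers x)))).symm)
  have hKH : K ≤ H := hcc.trans (h.pPrime_facts hH hcH
    (fun e => by rw [e, orderOf_one] at hco; exact hr.ne_one hco.symm)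
    (fun hd => hKp (hd.trans (Subgroup.orderOf_dvd_natCard K hcK)))).1
  have hsup : K ⊔ P ≤ H := sup_le hKH hPH
  refine le_trans ?_ hsup
  rw [← relIndex_eq_one]
  by_contra hne
  obtain ⟨q, hq, hqd⟩ := Nat.exists_prime_and_dvd hne
  by_cases hqp : q = p
  · exact hP (hqp ▸ hqd.trans (relIndex_dvd_of_le_left X le_sup_right))
  · exact hKidx q hq hqp (hqd.trans (relIndex_dvd_of_le_left X le_sup_left))

end Cfsg.Agent.OddPre.PPrimeNilpotent
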